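import Mathlib
import Cfsg.Agent.Root.RD2
import Cfsg.Agent.S5048
import Cfsg.Agent.S1175
import Cfsg.Agent.Ben.Cons2

/-! Root involutions with disconnected commuting graph: Bender groups. -/

namespace Cfsg.Agent.Root

open Subgroup Cfsg.Agent.LocalEven

variable {G : Type*} [Group G] {D : Set G}

theorem riSet_map {H : Type*} [Group H] (hD : IsRootInvolutionSet D) {f : G →* H}
    (hf : Function.Surjective f) (hk : ∀ d ∈ D, f d ≠ 1) : IsRootInvolutionSet (f '' D) := by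
  have hR := RI.of_set hD
  have two : ∀ d ∈ D, orderOf (f d) = 2 := fun d hd =>
    orderOf_eq_prime (by rw [sq, ← map_mul, hR.sq hd, map_one]) (hk d hd)
  refine ⟨by rintro _ ⟨d, hd, rfl⟩; exact two d hd, ?_, ?_, ?_⟩
  · rw [← MonoidHom.map_closure, hD.generates, map_top_of_surjective _ hf]
  · rintro _ ⟨d, hd, rfl⟩ g
    obtain ⟨g, rfl⟩ := hf g
    exact ⟨_, hD.conj_mem d hd g, by simp⟩
  · rintro _ ⟨a, ha, rfl⟩ _ ⟨b, hb, rfl⟩
    rcases hD.pair a ha b hb with c | c | ⟨c, m⟩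
    · left; rw [← map_mul, c, map_mul]
    · right; left; rw [← map_mul]; exact c.of_dvd_nat (orderOf_map_dvd f _)
    · right; right
      refine ⟨?_, _, m, by simp⟩
      have := orderOf_eq_prime_pow (x := f a * f b) (p := 2) (n := 1)
        (by simpa using hk _ m) (by rw [← map_mul, ← map_pow, show 2 ^ (1 + 1) = 4 by norm_num, ← c,
          pow_orderOf_eq_one, map_one])
      simpa using this

theorem RI.cn_of_map_comm {H : Type*} [Group H] (hR : RI D) {f : G →* H}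
    (hk : ∀ a ∈ D, ∀ b ∈ D, OP2 a b → f (a * b) ≠ 1) {a b : G} (ha : a ∈ D) (hb : b ∈ D)
    (h : f a * f b = f b * f a) : Cn D a b := by
  refine hR.cn_of_not_OP2 ha hb fun o => hk a ha b hb o ?_
  refine eq_one_of_odd_of_sq (o.2.of_dvd_nat (orderOf_map_dvd f _)) ?_
  rw [map_mul]
  exact sq_mul_of_comm (by rw [← map_mul, hR.sq ha, map_one]) (by rw [← map_mul, hR.sq hb, map_one]) h

theorem RI.cn_lift {H : Type*} [Group H] (hR : RI D) {f : G →* H}
    (hk : ∀ a ∈ D, ∀ b ∈ D, OP2 a b → f (a * b) ≠ 1) {a b : G} (ha : a ∈ D) (hb : b ∈ D)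
    (h : Cn (f '' D) (f a) (f b)) : Cn D a b := by
  generalize e : f b = y at h
  induction h generalizing b with
  | refl => exact hR.cn_of_map_comm hk ha hb (by rw [e])
  | tail _ h ih =>
    obtain ⟨⟨c, hc, rfl⟩, -, -, h⟩ := h
    exact (ih hc rfl).trans (hR.cn_of_map_comm hk hc hb (by rw [e]; exact h))

theorem RI.not_mem_twoZCore [Finite G] (hR : RI D) {a b : G} (ha : a ∈ D) (hb : b ∈ D) (o : OP2 a b) :
    a * b ∉ twoZCore G := by
  intro h
  have h1 := mem_center_iff.1 h (QuotientGroup.mk' _ a)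
  have h2 : a * b * (a * b) ∈ pCore 2 G := by
    rw [← map_mul, ← map_mul, QuotientGroup.mk'_apply, QuotientGroup.mk'_apply, eq_comm,
      QuotientGroup.eq_iff_div_mem, div_eq_mul_inv, hR.mm ha, hR.inv hb] at h1
    simpa [mul_assoc] using h1
  exact o.mul_ne_one (hR.sq hb) (eq_one_of_isPGroup_two_of_odd isPGroup_pCore
    (mem_of_odd_of_sq_mem o.2 h2) o.2)

theorem RI.odd_conn (hR : RI D) {d x : G} (hd : d ∈ D) (hx : x ∈ D) (hn : ¬ Cn D d x) :
    IsConnectedSet (OddAdj D) D := by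
  intro a ha b hb
  by_cases k : Cn D a b
  · obtain ⟨y, hy, n⟩ : ∃ y ∈ D, ¬ Cn D a y := by
      by_contra h
      push Not at h
      exact hn ((h d hd).symm.trans (h x hx))
    exact .tail (.single (oddAdj_iff.2 ⟨ha, hy, hR.op2_of_not_cn ha hy n⟩))
      (oddAdj_iff.2 ⟨hy, hb, hR.op2_of_not_cn hy hb fun k' => n (k.trans k'.symm)⟩)
  · exact .single (oddAdj_iff.2 ⟨ha, hb, hR.op2_of_not_cn ha hb k⟩)

section Disc

variable [Finite G] (hD : IsRootInvolutionSet D) (hDD : (D ∩ commutingProducts D).Nonempty)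
  {d x : G} (hd : d ∈ D) (hx : x ∈ D) (hn : ¬ Cn D d x)
include hD hd hx hn

theorem disc_ne_one {a : G} (ha : a ∈ D) : QuotientGroup.mk' (twoZCore G) a ≠ 1 := by
  have hR := RI.of_set hD
  obtain ⟨y, hy, n⟩ : ∃ y ∈ D, ¬ Cn D a y := by
    by_contra h
    push Not at h
    exact hn ((h d hd).symm.trans (h x hx))
  intro e
  exact n (hR.cn_of_map_comm (f := QuotientGroup.mk' (twoZCore G)) (fun a ha b hb o e =>
    hR.not_mem_twoZCore ha hb o ((QuotientGroup.eq_one_iff _).1 e)) ha hy (by rw [e]; simp))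

include hDD

theorem disc_simple : IsSimpleGroup (G ⧸ twoZCore G) :=
  (S5048.result hD ((RI.of_set hD).odd_conn hd hx hn) hDD).2

theorem disc_se : ∃ H : Subgroup (G ⧸ twoZCore G), IsStronglyEmbedded H := by
  have hR := RI.of_set hD
  haveI := disc_simple hD hDD hd hx hn
  have hD' := riSet_map hD (QuotientGroup.mk'_surjective (twoZCore G))
    fun a ha => disc_ne_one hD hd hx hn ha
  have hn' : ¬ Cn (QuotientGroup.mk' (twoZCore G) '' D) (QuotientGroup.mk' _ d)
      (QuotientGroup.mk' _ x) := fun k => hn (hR.cn_lift (fun a ha b hb o e =>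
    hR.not_mem_twoZCore ha hb o ((QuotientGroup.eq_one_iff _).1 e)) hd hx k)
  obtain ⟨z, hz, k, hS⟩ := exists_two_central hD' ⟨d, hd, rfl⟩ ⟨x, hx, rfl⟩ hn'
  refine S1175.result (St hD' z) (fun e => hn' (k.trans (cn_of_mem_St hD' hz ⟨x, hx, rfl⟩
    (e ▸ mem_top _)))) z (hD'.orderOf_eq z hz) (mem_St_of_cn hD' .refl) hS
    (fun g hg => cn_of_mem_St hD' hz (hD'.conj_mem z hz g) hg) fun g c n y hy => ?_
  exact TP.mem_St hD' ⟨z, hz, _, hD'.conj_mem z hz g, .refl, c, n.symm, rfl⟩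
    (mem_centralizer_singleton_iff.1 hy)

end Disc

end Cfsg.Agent.Root
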