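import Mathlib
import Cfsg.Agent.Root.RD3

/-! Root involutions: components of a disconnected commuting graph, the graph `𝓔(D)`. -/

namespace Cfsg.Agent.Root

open Subgroup Cfsg.Agent.LocalEven

variable {G : Type*} [Group G] {D : Set G}

theorem RI.riSet_sub (h : RI D) : IsRootInvolutionSet {g : closure D | (g : G) ∈ D} := by
  refine ⟨fun d hd => by rw [← h.two _ hd, Subgroup.orderOf_coe], closure_closure_coe_preimage,
    fun d hd g => h.conj_mem g.2 hd, fun a ha b hb => ?_⟩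
  rcases h.pair _ ha _ hb with c | c | ⟨c, m⟩
  · exact Or.inl (Subtype.ext c)
  · right; left; rwa [← Subgroup.orderOf_coe]
  · right; right; exact ⟨by rwa [← Subgroup.orderOf_coe], m⟩

theorem cn_sub {a b : closure D} (h : Cn {g : closure D | (g : G) ∈ D} a b) : Cn D a b := by
  induction h with
  | refl => exact .refl
  | tail _ h ih => exact ih.trans (cn_of_comm h.1 h.2.1 (congrArg Subtype.val h.2.2.2))

theorem cn_sub' {a b : G} (ha : a ∈ D) (hb : b ∈ D) (h : Cn D a b) :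
    Cn {g : closure D | (g : G) ∈ D} ⟨a, subset_closure ha⟩ ⟨b, subset_closure hb⟩ := by
  induction h with
  | refl => exact .refl
  | tail _ h ih => exact (ih h.1).trans (cn_of_comm h.1 hb (Subtype.ext h.2.2.2))

theorem dd_of_mul_mem (h : RI D) {a b : G} (ha : a ∈ D) (hb : b ∈ D) (hab : a * b ∈ D) :
    (D ∩ commutingProducts D).Nonempty :=
  ⟨_, hab, a, ha, b, hb, h.comm_of_mul_mem ha hb hab, h.ne_one hab, rfl⟩

theorem twoRank_of_comm {H : Type*} [Group H] {a b : H} (a2 : a * a = 1) (b2 : b * b = 1) (a1 : a ≠ 1)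
    (b1 : b ≠ 1) (n : a ≠ b) (c : a * b = b * a) : Suz.TwoRank H :=
  ⟨a, b, a1, b1, n, a2, b2, c⟩

section Disc

variable [Finite G] (hD : IsRootInvolutionSet D) (hDD : (D ∩ commutingProducts D).Nonempty)
  {d x : G} (hd : d ∈ D) (hx : x ∈ D) (hn : ¬ Cn D d x)
include hD hDD hd hx hn

theorem disc_twoRank : Suz.TwoRank (G ⧸ twoZCore G) := by
  have hR := RI.of_set hD
  obtain ⟨_, hab, a, ha, b, hb, c, -, rfl⟩ := hDD
  refine twoRank_of_comm (a := QuotientGroup.mk' _ a) (b := QuotientGroup.mk' _ b)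
    (by rw [← map_mul, hR.sq ha, map_one]) (by rw [← map_mul, hR.sq hb, map_one])
    (disc_ne_one hD hd hx hn ha) (disc_ne_one hD hd hx hn hb) (fun e => ?_)
    (by rw [← map_mul, c, map_mul])
  exact disc_ne_one hD hd hx hn hab (by rw [map_mul, e, ← map_mul, hR.sq hb, map_one])

theorem disc_comm {a b : G} (ha : a ∈ D) (hb : b ∈ D) (k : Cn D a b) : a * b = b * a := by
  have hR := RI.of_set hD
  haveI := disc_simple hD hDD hd hx hn
  obtain ⟨H, hH⟩ := disc_se hD hDD hd hx hn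
  have hse := Ben.se_quotient hH
  obtain ⟨t, Q, hS⟩ := Ben.simple_setup hH
  haveI := Ben.faithful_of_simple hH.1
  set π := QuotientGroup.mk' (twoZCore G)
  have sq : ∀ a ∈ D, π a * π a = 1 := fun a ha => by rw [← map_mul, hR.sq ha, map_one]
  obtain ⟨c, hc⟩ := hse.exists_mem_II (disc_ne_one hD hd hx hn ha) (sq a ha)
  have hb' : π b ∈ Ben.II _ c := by
    induction k with
    | refl => exact hc
    | tail _ h ih =>
      exact Ben.mem_II.2 ⟨hse.fix_of_comm (ih h.1) (by rw [← map_mul, ← h.2.2.2, map_mul]),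
        disc_ne_one hD hd hx hn hb, sq _ hb⟩
  obtain ⟨g, rfl⟩ := hse.trans ((1 : G ⧸ twoZCore G) : _ ⧸ H) c
  have hS' := RankOne.Setup.conj hS g
  obtain ⟨F, _, _, _, ⟨Z⟩⟩ := Suz.exists_ZF hS' (disc_twoRank hD hDD hd hx hn)
  obtain ⟨u, eu⟩ := Z.z_surj _ (RankOne.Setup.mem_Q_of_mul_self hS' (Ben.mem_II.1 hc).1 (sq a ha))
    (sq a ha)
  obtain ⟨v, ev⟩ := Z.z_surj _ (RankOne.Setup.mem_Q_of_mul_self hS' (Ben.mem_II.1 hb').1 (sq b hb))
    (sq b hb)
  have cm : π a * π b = π b * π a := by rw [eu, ev, ← Z.z_add, ← Z.z_add, add_comm]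
  have s2 := sq_mul_of_comm (sq a ha) (sq b hb) cm
  rcases hR.tri ha hb with c | o | ⟨-, m⟩
  · exact c
  · have : π (a * b) = 1 := eq_one_of_odd_of_sq
      (o.2.of_dvd_nat (orderOf_map_dvd π _)) (by rw [map_mul]; exact s2)
    exact absurd ((QuotientGroup.eq_one_iff _).1 this) (hR.not_mem_twoZCore ha hb o)
  · have : π (a * b * a * b) = 1 := by simpa only [map_mul, mul_assoc] using s2
    exact absurd this (disc_ne_one hD hd hx hn m)

end Disc

theorem RI.comm_of_cn [Finite G] (h : RI D) {p q : G} (hp : p ∈ D) (hq : q ∈ D) (hpq : p * q ∈ D)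
    {d x : G} (hd : d ∈ D) (hx : x ∈ D) (hn : ¬ Cn D d x) {a b : G} (ha : a ∈ D) (hb : b ∈ D)
    (k : Cn D a b) : a * b = b * a :=
  congrArg Subtype.val (disc_comm h.riSet_sub (dd_of_mul_mem (RI.of_set h.riSet_sub)
    (a := ⟨p, subset_closure hp⟩) (b := ⟨q, subset_closure hq⟩) hp hq hpq)
    (d := ⟨d, subset_closure hd⟩) (x := ⟨x, subset_closure hx⟩) hd hx (fun k => hn (cn_sub k))
    (a := ⟨a, subset_closure ha⟩) (b := ⟨b, subset_closure hb⟩) ha hb (cn_sub' ha hb k))

theorem RI.cn_of_four [Finite G] (h : RI D) {a b : G} (ha : a ∈ D) (hb : b ∈ D)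
    (h4 : orderOf (a * b) = 4) {d x : G} (hd : d ∈ D) (hx : x ∈ D) : Cn D d x := by
  by_contra hn
  refine not_comm_of_four (h.sq ha) (h.sq hb) h4 (h.comm_of_cn ha (h.conjD a ha b hb) ?_ hd hx hn
    ha hb (h.cn_of_not_OP2 ha hb (not_OP2_of_four h4)))
  simpa [mul_assoc] using h.com_mem ha hb h4

/-- same component of the graph `𝓔(D)` -/
abbrev PE (D : Set G) (a b : G) : Prop := Relation.ReflTransGen (ProdAdj D) a b

theorem PE.symm {a b : G} (h : PE D a b) : PE D b a := by
  induction h with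
  | refl => exact .refl
  | tail _ h ih => exact .head ⟨h.2.1, h.1, h.2.2.1.symm, h.2.2.2.1.symm, h.2.2.2.1 ▸ h.2.2.2.2⟩ ih

theorem RI.pe_of_mul (h : RI D) {a b : G} (ha : a ∈ D) (hb : b ∈ D) (hab : a * b ∈ D) : PE D a b :=
  .single ⟨ha, hb, fun e => h.ne_one hab (by rw [e, h.sq hb]), h.comm_of_mul_mem ha hb hab, hab⟩

theorem PE.conj (h : RI D) {g : G} (hD : ∀ d ∈ D, g * d * g⁻¹ ∈ D) {a b : G} (k : PE D a b) :
    PE D (g * a * g⁻¹) (g * b * g⁻¹) := by
  induction k with
  | refl => exact .refl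
  | @tail b c _ k ih =>
    refine ih.trans (h.pe_of_mul (hD _ k.1) (hD _ k.2.1) ?_)
    simpa [mul_assoc] using hD _ k.2.2.2.2

theorem RI.pe_four (h : RI D) {a b : G} (ha : a ∈ D) (hb : b ∈ D) (h4 : orderOf (a * b) = 4) :
    PE D a (a * b * a * b) ∧ PE D a b := by
  have m := h.com_mem ha hb h4
  have p1 : PE D a (a * b * a * b) := h.pe_of_mul ha m (by
    simpa [mul_assoc, h.mm ha] using h.conjD a ha b hb)
  refine ⟨p1, p1.trans (h.pe_of_mul m hb ?_)⟩
  simpa [mul_assoc, h.sq hb] using h.conjD b hb a ha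

theorem RI.comm_of_not_pe (h : RI D) {u y : G} (hu : u ∈ D) (hy : y ∈ D) (n : ¬ PE D u y)
    (o : ¬ OP2 u y) {v : G} (k : PE D u v) : v * y = y * v := by
  have base : ∀ u ∈ D, ¬ PE D u y → ¬ OP2 u y → u * y = y * u := fun u hu n o => by
    by_contra c
    exact n (h.pe_four hu hy (h.four_of hu hy o c).1).2
  induction k with
  | refl => exact base u hu n o
  | tail k a ih =>
    exact base _ a.2.1 (fun k' => n ((k.tail a).trans k')) fun o' =>
      h.not_OP2_line hy a.1 a.2.1 a.2.2.2.2 a.2.2.2.1 ih.symm o'.symm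

theorem PE.mem {a b : G} (h : PE D a b) (ha : a ∈ D) : b ∈ D := by
  induction h with
  | refl => exact ha
  | tail _ h _ => exact h.2.1

theorem RI.op2_of_not_pe (h : RI D) {u y : G} (hu : u ∈ D) (hy : y ∈ D) (n : ¬ PE D u y)
    (o : OP2 u y) {v : G} (k : PE D u v) : OP2 v y := by
  by_contra o'
  exact o.not_comm (h.sq hu) (h.sq hy)
    (h.comm_of_not_pe (k.mem hu) hy (fun k' => n (k.trans k')) o' k.symm)

theorem RI.pe_of_four_odd [Finite G] (hD : IsRootInvolutionSet D) {a b x : G} (ha : a ∈ D) (hb : b ∈ D)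
    (hx : x ∈ D) (h4 : orderOf (a * b) = 4) (o : OP2 a x) : PE D a x := by
  have h := RI.of_set hD
  generalize e : Nat.card (closure ({a, b, x} : Set G)) = n
  induction n using Nat.strong_induction_on generalizing x with
  | _ n ih =>
  by_contra hn
  set L := closure ({a, b, x} : Set G)
  let D' : Set G := {y | y ∈ D ∧ y ∈ L ∧ ∃ y' ∈ D, y' ∈ L ∧ OP2 y y' ∧ ¬ PE D y y'}
  have aL : a ∈ L := subset_closure (by simp)
  have bL : b ∈ L := subset_closure (by simp)
  have xL : x ∈ L := subset_closure (by simp)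
  have h' : RI D' := by
    refine ⟨fun d hd => h.two d hd.1, ?_, ?_⟩
    · rintro d ⟨hd, dL, y, hy, yL, o, n⟩ e ⟨he, eL, -⟩
      refine ⟨h.conjD d hd e he, mul_mem (mul_mem eL dL) eL, _, h.conjD y hy e he,
        mul_mem (mul_mem eL yL) eL, by simpa [h.inv he] using o.conj e, fun k => n ?_⟩
      simpa [mul_assoc, h.inv he, h.mm he, h.sq he] using k.conj h (fun d hd => hD.conj_mem d hd e)
    · rintro u ⟨hu, uL, y, hy, yL, o, n⟩ v ⟨hv, vL, -⟩
      refine (h.pair u hu v hv).imp_right (Or.imp_right fun ⟨c, m⟩ => ⟨c, m,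
        pow_mem (mul_mem uL vL) 2, y, hy, yL, ?_, fun k => n ?_⟩)
      · rw [pow_two, ← mul_assoc]; exact h.op2_of_not_pe hu hy n o (h.pe_four hu hv c).1
      · rw [pow_two, ← mul_assoc] at k; exact (h.pe_four hu hv c).1.trans k
  have pab := (h.pe_four ha hb h4).2
  have aD : a ∈ D' := ⟨ha, aL, x, hx, xL, o, hn⟩
  have bD : b ∈ D' := ⟨hb, bL, x, hx, xL, h.op2_of_not_pe ha hx hn o pab,
    fun k => hn (pab.trans k)⟩
  have xD : x ∈ D' := ⟨hx, xL, a, ha, aL, o.symm, fun k => hn k.symm⟩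
  have key : ∀ y, Cn D' a y → PE D a y ∨ ¬ OP2 a y := by
    intro y k
    induction k with
    | refl => exact Or.inl .refl
    | @tail w y k c ih' =>
      by_contra hh
      push Not at hh
      obtain ⟨⟨hw, wL, w', hw', wL', ow, -⟩, ⟨hy, yL, -⟩, -, c⟩ := c
      have nw : ¬ PE D a w := fun k =>
        (h.op2_of_not_pe ha hy hh.1 hh.2 k).not_comm (h.sq hw) (h.sq hy) c
      have ow' := ih'.resolve_left nw
      have le : closure ({a, b, y} : Set G) ≤ L ⊓ centralizer {w} := by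
        rw [closure_le]
        rintro z (rfl | rfl | rfl)
        · exact ⟨aL, mem_centralizer_singleton_iff.2 (h.comm_of_not_pe ha hw nw ow' .refl)⟩
        · exact ⟨bL, mem_centralizer_singleton_iff.2 (h.comm_of_not_pe ha hw nw ow' pab)⟩
        · exact ⟨yL, mem_centralizer_singleton_iff.2 c.symm⟩
      refine hh.1 (ih _ ?_ hy hh.2 rfl)
      rw [← e]
      refine Core.card_lt_of_lt (lt_of_le_of_lt le (lt_of_le_of_ne inf_le_left fun e' => ?_))
      rw [← e'] at wL'
      exact ow.not_comm (h.sq hw) (h.sq hw') (mem_centralizer_singleton_iff.1 wL'.2).symm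
  exact (key x (h'.cn_of_four aD bD h4 aD xD)).elim hn fun n => n o

theorem pe_connected [Finite G] (hD : IsNondegenerateRootInvolutionSet D)
    (hcl : IsRootInvolutionClass D) : IsConnectedSet (ProdAdj D) D := by
  have h := RI.of_set hD.1
  obtain ⟨a, ha, b, hb, h4⟩ := hD.2.2.2
  have odd : ∀ u ∈ D, ∀ x ∈ D, OP2 u x → PE D u x := by
    intro u hu x hx o
    obtain ⟨g, rfl⟩ := hcl.2.2 a ha u hu
    refine RI.pe_of_four_odd hD.1 hu (hD.1.conj_mem b hb g) hx ?_ o
    rw [← h4, ← (MulAut.conj g).orderOf_eq (a * b)]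
    simp [mul_assoc]
  have st : ∀ g ∈ closure D, ∀ u ∈ D, PE D u (g * u * g⁻¹) := by
    intro g hg
    induction hg using closure_induction with
    | mem d hd =>
      intro u hu
      by_cases k : PE D u d
      · have := k.symm.conj h (fun e he => hD.1.conj_mem e he d)
        rw [mul_inv_cancel_right] at this
        exact k.trans this
      · rw [← h.comm_of_not_pe hu hd k (fun o => k (odd u hu d hd o)) .refl, mul_inv_cancel_right]
    | one => intro u _; simpa using Relation.ReflTransGen.refl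
    | mul x y _ _ h1 h2 =>
      intro u hu
      simpa [mul_assoc] using (h2 u hu).trans (h1 _ (hD.1.conj_mem u hu y))
    | inv x _ h1 =>
      intro u hu
      simpa [mul_assoc] using (h1 _ (hD.1.conj_mem u hu x⁻¹)).symm
  intro u hu v hv
  obtain ⟨g, rfl⟩ := hcl.2.2 u hu v hv
  exact st g (hD.1.generates ▸ mem_top g) u hu

end Cfsg.Agent.Root
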