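import Mathlib
import Cfsg.Agent.Root.SL2

/-! Special rank one groups: the `μ`-maps. -/

set_option autoImplicit false

namespace Cfsg.Agent.Root

open Subgroup Cfsg.Agent.LocalEven Matrix
open scoped commutatorElement MatrixGroups

variable {G : Type*} [Group G] {A B : Subgroup G}

/-- `τ` interchanges `A` and `B` -/
def Swap (A B : Subgroup G) (τ : G) : Prop := cj τ A = B ∧ cj τ B = A

/-- `y` is the image of `x` under the map induced by `τ` -/
def Mu (A B : Subgroup G) (τ x y : G) : Prop := x ∈ A ∧ y ∈ A ∧ cj τ (cj x B) = cj y B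

theorem Swap.inv {τ : G} (h : Swap A B τ) : Swap A B τ⁻¹ :=
  ⟨by rw [← h.2, cj_inv_cj], by rw [← h.1, cj_inv_cj]⟩

theorem Mu.inv {τ x y : G} (h : Mu A B τ x y) : Mu A B τ⁻¹ y x :=
  ⟨h.2.1, h.1, by rw [← h.2.2, cj_inv_cj]⟩

theorem Mu.unique (h : IsRankOnePair A B) {τ x y y' : G} (h1 : Mu A B τ x y) (h2 : Mu A B τ x y') : y = y' :=
  r1_inj h h1.2.1 h2.2.1 (h1.2.2.symm.trans h2.2.2)

theorem Mu.ne_one (h : IsRankOnePair A B) {τ x y : G} (hτ : Swap A B τ) (h1 : Mu A B τ x y) : x ≠ 1 := by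
  rintro rfl
  have := h1.2.2
  rw [cj_one, hτ.2] at this
  exact r1_cj_ne h h1.2.1 this.symm

theorem mu_of_partner {τ x β : G} (hτ : Swap A B τ) (hx : x ∈ A) (hβ : β ∈ B) (e : cj β A = cj x B) :
    Mu A B τ x (τ * β * τ⁻¹) := by
  refine ⟨hx, by rw [← hτ.2]; exact conj_mem_cj hβ, ?_⟩
  rw [← e, cj_cj]
  conv_rhs => rw [← hτ.1, cj_cj, inv_mul_cancel_right]

theorem exists_mu (h : IsRankOnePair A B) {τ x : G} (hτ : Swap A B τ) (hx : x ∈ A) (hx1 : x ≠ 1) :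
    ∃ y, Mu A B τ x y := by
  obtain ⟨β, hβ, -, e⟩ := r1_cond h hx hx1
  exact ⟨_, mu_of_partner hτ hx hβ e⟩

theorem Mu.neg (h : IsRankOnePair A B) (hs : Sp A B) {τ x y : G} (hτ : Swap A B τ) (h1 : Mu A B τ x y) :
    Mu A B τ x⁻¹ y⁻¹ := by
  obtain ⟨β, hβ, -, e⟩ := r1_cond h h1.1 (h1.ne_one h hτ)
  have h2 := mu_of_partner hτ h1.1 hβ e
  have h3 := mu_of_partner hτ (inv_mem h1.1) (inv_mem hβ) (hs x h1.1 β hβ e)
  rw [h1.unique h h2]
  convert h3 using 1; group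

theorem Mu.change {τ τ' x y : G} (hτ : Swap A B τ) (hτ' : Swap A B τ') (h1 : Mu A B τ x y) :
    Mu A B τ' x ((τ' * τ⁻¹) * y * (τ' * τ⁻¹)⁻¹) := by
  have hA : cj (τ' * τ⁻¹) A = A := by rw [cj_mul, hτ.inv.1, hτ'.2]
  have hB : cj (τ' * τ⁻¹) B = B := by rw [cj_mul, hτ.inv.2, hτ'.1]
  refine ⟨h1.1, by rw [← hA]; exact conj_mem_cj h1.2.1, ?_⟩
  have : cj τ' (cj x B) = cj (τ' * τ⁻¹) (cj τ (cj x B)) := by rw [cj_cj _ τ, inv_mul_cancel_right]
  rw [this, h1.2.2, cj_cj]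
  conv_rhs => rw [← hB, cj_cj, inv_mul_cancel_right]

/-- the data attached to a non-identity element of `A` in a special pair -/
structure NData (A B : Subgroup G) (a b : G) : Prop where
  ha : a ∈ A
  hb : b ∈ B
  e1 : cj b A = cj a B
  e2 : cj b⁻¹ A = cj a⁻¹ B
  braid : a * b⁻¹ * a = b⁻¹ * a * b⁻¹

theorem ndata_mk (h : IsRankOnePair A B) (hs : Sp A B) {a b : G} (ha : a ∈ A) (hb : b ∈ B)
    (e : cj b A = cj a B) : NData A B a b := by
  refine ⟨ha, hb, e, hs a ha b hb e, ?_⟩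
  have := sp_elt h ha hb e (hs a ha b hb e)
  calc a * b⁻¹ * a = a * (b⁻¹ * a * b) * b⁻¹ := by group
    _ = _ := by rw [this]; group

theorem exists_ndata (h : IsRankOnePair A B) (hs : Sp A B) {a : G} (ha : a ∈ A) (ha1 : a ≠ 1) :
    ∃ b, NData A B a b := by
  obtain ⟨b, hb, -, e⟩ := r1_cond h ha ha1
  exact ⟨b, ndata_mk h hs ha hb e⟩

namespace NData

variable {a b : G} (d : NData A B a b)
include d

theorem swap : Swap A B (a * b⁻¹ * a) := by
  constructor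
  · rw [cj_mul, cj_mul, cj_eq_of_mem d.ha, d.e2, cj_cj_inv]
  · rw [d.braid, cj_mul, cj_mul, cj_eq_of_mem (inv_mem d.hb), ← d.e1, cj_inv_cj]

theorem n_a : (a * b⁻¹ * a) * a * (a * b⁻¹ * a)⁻¹ = b⁻¹ := by
  calc _ = (a * b⁻¹ * a) * a * (b⁻¹ * a * b⁻¹)⁻¹ := by rw [← d.braid]
    _ = (b⁻¹ * a * b⁻¹) * a * (b⁻¹ * a * b⁻¹)⁻¹ := by rw [d.braid]
    _ = b⁻¹ * (a * b⁻¹ * a) * (b⁻¹ * a * b⁻¹)⁻¹ := by group
    _ = _ := by rw [d.braid]; group

theorem n_b : (a * b⁻¹ * a) * b * (a * b⁻¹ * a)⁻¹ = a⁻¹ := by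
  have : (a * b⁻¹ * a) * b⁻¹ * (a * b⁻¹ * a)⁻¹ = a := by
    calc _ = a * (b⁻¹ * a * b⁻¹) * (a * b⁻¹ * a)⁻¹ := by group
      _ = _ := by rw [← d.braid]; group
  calc _ = ((a * b⁻¹ * a) * b⁻¹ * (a * b⁻¹ * a)⁻¹)⁻¹ := by group
    _ = _ := by rw [this]

theorem mu_self : Mu A B (a * b⁻¹ * a) a a⁻¹ := by
  have := mu_of_partner d.swap d.ha d.hb d.e1
  rwa [d.n_b] at this

theorem mu_self' : Mu A B (a * b⁻¹ * a)⁻¹ a a⁻¹ := by
  refine ⟨d.ha, inv_mem d.ha, ?_⟩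
  rw [cj_cj, show (a * b⁻¹ * a)⁻¹ * a = a⁻¹ * b * (a⁻¹ * a) by group, inv_mul_cancel, mul_one, cj_mul,
    cj_eq_of_mem d.hb]

theorem mu_id {x y z : G} (h1 : Mu A B (a * b⁻¹ * a) x y) (h2 : Mu A B (a * b⁻¹ * a)⁻¹ (a * x) z) :
    Mu A B (a * b⁻¹ * a) (a * z) (a⁻¹ * y) := by
  refine ⟨mul_mem d.ha h2.2.1, mul_mem (inv_mem d.ha) h1.2.1, ?_⟩
  rw [cj_mul a z, ← h2.2.2, cj_mul a⁻¹ y, ← h1.2.2]
  simp only [cj_cj]
  congr 1
  calc _ = ((a * b⁻¹ * a) * a * (a * b⁻¹ * a)⁻¹) * (a * x) := by group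
    _ = _ := by rw [d.n_a]; group

end NData

/-- `k · (x^k)τ = xτ` -/
theorem mu_pow (h : IsRankOnePair A B) (hs : Sp A B) (k : ℕ) :
    ∀ {τ x y y' : G}, Swap A B τ → Mu A B τ (x ^ k) y → Mu A B τ x y' → y ^ k = y' := by
  induction k with
  | zero => intro τ x y y' hτ h1 _; exact absurd (pow_zero x) (h1.ne_one h hτ)
  | succ k ih =>
    intro τ a y y' hτ h1 h2
    obtain ⟨b, d⟩ := exists_ndata h hs h2.1 (h2.ne_one h hτ)
    have hn := d.swap
    obtain ⟨z, hz⟩ := exists_mu h hn.inv h1.1 (h1.ne_one h hτ)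
    have key : z ^ (k + 1) = a⁻¹ := by
      by_cases hk : a ^ k = 1
      · have e : a ^ (k + 1) = a := by rw [pow_succ, hk, one_mul]
        rw [e] at hz
        rw [hz.unique h d.mu_self', inv_pow, e]
      · obtain ⟨y0, hy0⟩ := exists_mu h hn (pow_mem d.ha k) hk
        have e1 : y0 ^ k = a⁻¹ := ih hn hy0 d.mu_self
        have e2 := (d.mu_id hy0 (by rw [← pow_succ']; exact hz)).inv
        rw [← e1, ← pow_succ] at e2
        have e3 := hz.neg h hs hn.inv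
        rw [← inv_pow, ← e1, ← pow_mul, mul_comm k, pow_mul] at e3
        have e4 := ih hn.inv e3 e2
        rw [inv_pow] at e4
        calc z ^ (k + 1) = a⁻¹ * (a * z) * z ^ k := by rw [pow_succ']; group
          _ = _ := by rw [← e4]; group
    rw [h1.unique h (hz.change hn.inv hτ), h2.unique h (d.mu_self'.change hn.inv hτ), conj_pow, key]

theorem sp_divisible (h : IsRankOnePair A B) (hs : Sp A B) {x : G} (hx : x ∈ A) {k : ℕ} (hk : x ^ k ≠ 1) :
    ∃ c ∈ A, c ^ k = x := by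
  have hx1 : x ≠ 1 := by rintro rfl; exact hk (one_pow k)
  obtain ⟨b, d⟩ := exists_ndata h hs hx hx1
  obtain ⟨y, hy⟩ := exists_mu h d.swap (pow_mem hx k) hk
  refine ⟨y⁻¹, inv_mem hy.2.1, ?_⟩
  rw [inv_pow, mu_pow h hs k d.swap hy d.mu_self, inv_inv]

theorem sp_pow_eq_one (h : IsRankOnePair A B) (hs : Sp A B) (hc : Com A A) {a : G} (ha : a ∈ A) (ha1 : a ≠ 1)
    {k : ℕ} (hk : a ^ k = 1) {x : G} (hx : x ∈ A) : x ^ k = 1 := by
  by_contra hxk
  obtain ⟨b, d⟩ := exists_ndata h hs ha ha1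
  have e : (x * a) ^ k = x ^ k := by rw [Commute.mul_pow (hc x hx a ha), hk, mul_one]
  obtain ⟨y, hy⟩ := exists_mu h d.swap (pow_mem hx k) hxk
  obtain ⟨y1, hy1⟩ := exists_mu h d.swap hx (by rintro rfl; exact hxk (one_pow k))
  obtain ⟨y2, hy2⟩ := exists_mu h d.swap (mul_mem hx ha) (by intro e1; rw [e1, one_pow] at e; exact hxk e.symm)
  have e1 := mu_pow h hs k d.swap hy hy1
  have e2 := mu_pow h hs k d.swap (e ▸ hy) hy2
  rw [← e1] at hy1
  rw [← e2] at hy2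
  have := hy1.inv.unique h hy2.inv
  exact ha1 (left_eq_mul.1 this)

theorem exists_prime_order {a : G} (ha1 : a ≠ 1) (hfin : IsOfFinOrder a) :
    ∃ p k : ℕ, p.Prime ∧ a ^ k ≠ 1 ∧ (a ^ k) ^ p = 1 := by
  have hord : orderOf a ≠ 1 := fun e => ha1 (orderOf_eq_one_iff.1 e)
  obtain ⟨p, hp, k, hk⟩ := Nat.exists_prime_and_dvd hord
  have hpos := hfin.orderOf_pos
  refine ⟨p, k, hp, ?_, by rw [← pow_mul, mul_comm, ← hk, pow_orderOf_eq_one]⟩
  apply pow_ne_one_of_lt_orderOf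
  · rintro rfl; omega
  · have := hp.two_le
    have hk0 : 0 < k := Nat.pos_of_ne_zero (by rintro rfl; omega)
    nlinarith

theorem exists_not_mem_three {A : Subgroup G} (h3 : 3 < ENat.card A) (x y z : G) :
    ∃ w ∈ A, w ≠ x ∧ w ≠ y ∧ w ≠ z := by
  by_contra hc
  push Not at hc
  have hsub : (A : Set G) ⊆ {x, y, z} := by
    intro w hw
    by_cases h1 : w = x
    · exact Or.inl h1
    by_cases h2 : w = y
    · exact Or.inr (Or.inl h2)
    exact Or.inr (Or.inr (hc w hw h1 h2))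
  have h1 := Set.encard_le_encard hsub
  have h2 : ({x, y, z} : Set G).encard ≤ 3 := by
    refine (Set.encard_insert_le _ _).trans ?_
    have := Set.encard_insert_le ({z} : Set G) y
    rw [Set.encard_singleton] at this
    calc _ ≤ (1 + 1 : ℕ∞) + 1 := by gcongr
      _ = 3 := by norm_num
  have h4 : ENat.card A = (A : Set G).encard := rfl
  rw [h4] at h3
  exact absurd (h1.trans h2) (not_le.2 h3)

theorem sp_le_commutator (h : IsRankOnePair A B) (hs : Sp A B) (hc : Com A A) (h3 : 3 < ENat.card A) :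
    A ≤ ⁅A, rankOneDiagonal A B⁆ := by
  set V := ⁅A, rankOneDiagonal A B⁆ with hV
  have hmu : ∀ τ ∈ A ⊔ B, Swap A B τ → ∀ x y, Mu A B τ x y → y * x ∈ V := by
    intro τ hτX hτ x y hxy
    obtain ⟨b, d⟩ := exists_ndata h hs hxy.1 (hxy.ne_one h hτ)
    have h1 := d.mu_self.change d.swap hτ
    set t := τ * (x * b⁻¹ * x)⁻¹ with ht
    have htH : t ∈ rankOneDiagonal A B := by
      have h0 : t ∈ A ⊔ B := mul_mem hτX (inv_mem (mul_mem (mul_mem (mem_sup_left d.ha)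
        (inv_mem (mem_sup_right d.hb))) (mem_sup_left d.ha)))
      refine ⟨⟨h0, ?_⟩, ?_⟩
      · exact cj_eq_self_iff.1 (by rw [ht, cj_mul, d.swap.inv.1, hτ.2])
      · exact cj_eq_self_iff.1 (by rw [ht, cj_mul, d.swap.inv.2, hτ.1])
    rw [hxy.unique h h1]
    have : t * x⁻¹ * t⁻¹ * x = ⁅x⁻¹, t⁆⁻¹ := by simp only [commutatorElement_def]; group
    rw [this]
    exact inv_mem (commutator_mem_commutator (inv_mem d.ha) htH)
  have key : ∀ a ∈ A, a ≠ 1 → ∀ x ∈ A, x ≠ 1 → a * x ≠ 1 → a * x * x ∈ V := by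
    intro a ha ha1 x hx hx1 hax
    obtain ⟨b, d⟩ := exists_ndata h hs ha ha1
    have hn : a * b⁻¹ * a ∈ A ⊔ B :=
      mul_mem (mul_mem (mem_sup_left d.ha) (inv_mem (mem_sup_right d.hb))) (mem_sup_left d.ha)
    obtain ⟨y, hy⟩ := exists_mu h d.swap hx hx1
    obtain ⟨z, hz⟩ := exists_mu h d.swap.inv (mul_mem ha hx) hax
    have h1 := hmu _ hn d.swap _ _ hy
    have h2 := hmu _ (inv_mem hn) d.swap.inv _ _ hz
    have h4 := hmu _ hn d.swap _ _ (d.mu_id hy hz)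
    have hyA := hy.2.1
    have hzA := hz.2.1
    have e : a * x * x = (a⁻¹ * y * (a * z))⁻¹ * (y * x) * (z * (a * x)) := by
      have c1 := hc y hyA a ha
      have c2 := hc x hx z hzA
      have c3 := hc x hx a ha
      calc a * x * x = x * a * x := by rw [c3]
        _ = z⁻¹ * (z * x) * (a * x) := by group
        _ = z⁻¹ * (x * z) * (a * x) := by rw [c2]
        _ = (a⁻¹ * (a * y) * z)⁻¹ * (y * x) * (z * (a * x)) := by group
        _ = _ := by rw [← c1]; group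
    rw [e]
    exact mul_mem (mul_mem (inv_mem h4) h1) h2
  have hsq : ∀ a ∈ A, a * a ∈ V := by
    intro a ha
    by_cases ha1 : a = 1
    · rw [ha1, mul_one]; exact one_mem _
    obtain ⟨x, hx, h1, h2, h4⟩ := exists_not_mem_three h3 1 a a⁻¹
    have k1 := key a ha ha1 x hx h1 (fun e => h4 (eq_inv_of_mul_eq_one_right e))
    have k2 := key a⁻¹ (inv_mem ha) (inv_ne_one.2 ha1) x hx h1 (fun e => h2 (inv_mul_eq_one.1 e).symm)
    have : a * a = (a * x * x) * (a⁻¹ * x * x)⁻¹ := by group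
    rw [this]; exact mul_mem k1 (inv_mem k2)
  intro a ha
  by_cases ha1 : a = 1
  · rw [ha1]; exact one_mem _
  obtain ⟨x, hx, h1, -, h4⟩ := exists_not_mem_three h3 1 a a⁻¹
  have k1 := key a ha ha1 x hx h1 (fun e => h4 (eq_inv_of_mul_eq_one_right e))
  have : a = (a * x * x) * (x * x)⁻¹ := by group
  rw [this]; exact mul_mem k1 (inv_mem (hsq x hx))

theorem sp_perfect (h : IsRankOnePair A B) (hs : Sp A B) (hc : Com A A) (h3 : 3 < ENat.card A) :
    ⁅A ⊔ B, A ⊔ B⁆ = A ⊔ B := by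
  have h1 : A ≤ ⁅A ⊔ B, A ⊔ B⁆ :=
    (sp_le_commutator h hs hc h3).trans (commutator_mono le_sup_left (fun x hx => hx.1.1))
  refine le_antisymm (commutator_le_self _) ((r1_le_commutator_sup h).trans (sup_le le_rfl h1))

/-- powers indexed by `ZMod p` -/
def pw {p : ℕ} (a : G) (t : ZMod p) : G := a ^ t.val

theorem pw_natCast {p : ℕ} [NeZero p] {a : G} (ha : a ^ p = 1) (k : ℕ) : pw a (k : ZMod p) = a ^ k := by
  rw [pw, ZMod.val_natCast, ← pow_eq_pow_mod k ha]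

theorem pw_add {p : ℕ} [NeZero p] {a : G} (ha : a ^ p = 1) (s t : ZMod p) : pw a (s + t) = pw a s * pw a t := by
  rw [pw, pw, pw, ← pow_add, ZMod.val_add, ← pow_eq_pow_mod _ ha]

theorem pw_mul {p : ℕ} [NeZero p] {a : G} (ha : a ^ p = 1) (s t : ZMod p) : pw a (s * t) = pw (pw a s) t := by
  rw [pw, pw, pw, ← pow_mul, ZMod.val_mul, ← pow_eq_pow_mod _ ha]

theorem pw_one {p : ℕ} [Fact p.Prime] {a : G} (ha : a ^ p = 1) : pw a (1 : ZMod p) = a := by
  have := pw_natCast ha 1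
  rwa [Nat.cast_one, pow_one] at this

theorem pw_zero {p : ℕ} (a : G) : pw a (0 : ZMod p) = 1 := by rw [pw, ZMod.val_zero, pow_zero]

theorem pw_neg {p : ℕ} [NeZero p] {a : G} (ha : a ^ p = 1) (s : ZMod p) : pw a (-s) = (pw a s)⁻¹ := by
  rw [eq_inv_iff_mul_eq_one, ← pw_add ha, neg_add_cancel, pw_zero]

theorem sp_prime_hom (h : IsRankOnePair A B) (hs : Sp A B) {p : ℕ} [hp : Fact p.Prime]
    (hA : ∀ a ∈ A, a ^ p = 1) {a b : G} (d : NData A B a b) :
    ∃ φ : SL(2, ZMod p) →* G, (∀ t, φ (mU t) = pw a t) ∧ (∀ t, φ (mL t) = pw b t) := by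
  have hB : ∀ β ∈ B, β ^ p = 1 := by
    intro β hβ
    rw [← d.swap.1] at hβ
    obtain ⟨x, hx, rfl⟩ := mem_cj'.1 hβ
    rw [conj_pow, hA x hx]; simp
  have hap := hA a d.ha
  have hbp := hB b d.hb
  have ha1 : a ≠ 1 := r1_ne_one_left h d.hb d.e1
  have hpart : ∀ t : ZMod p, t ≠ 0 → NData A B (pw a t) (pw b t⁻¹) := by
    intro t ht
    have hne : pw a t ≠ 1 := by
      intro e
      apply ha1
      rw [← pw_one hap, ← mul_inv_cancel₀ ht, pw_mul hap, e, pw, one_pow]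
    obtain ⟨β, dβ⟩ := exists_ndata h hs (pow_mem d.ha t.val) hne
    have h1 := mu_pow h hs t.val d.swap (mu_of_partner d.swap dβ.ha dβ.hb dβ.e1) d.mu_self
    rw [conj_pow, ← d.n_b] at h1
    have h2 : β ^ t.val = b := mul_left_cancel (mul_right_cancel h1)
    have h3 : pw b t⁻¹ = β := by
      rw [← h2, show β ^ t.val = pw β t from rfl, ← pw_mul (hB β dβ.hb), mul_inv_cancel₀ ht,
        pw_one (hB β dβ.hb)]
    rw [h3]; exact dβ
  let S : St2 (ZMod p) G :=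
    { x := pw a
      y := pw b
      x_add := pw_add hap
      y_add := pw_add hbp
      conj := fun t ht u => by
        have h1 := (hpart t ht).n_a
        rw [← pw_neg hbp] at h1
        have e1 : u = t * (t⁻¹ * u) := by field_simp
        have e2 : -(t⁻¹ * t⁻¹ * u) = -t⁻¹ * (t⁻¹ * u) := by ring
        have e3 : pw a u = (pw a t) ^ (t⁻¹ * u).val := by
          conv_lhs => rw [e1, pw_mul hap]
          rfl
        have e4 : pw b (-(t⁻¹ * t⁻¹ * u)) = (pw b (-t⁻¹)) ^ (t⁻¹ * u).val := by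
          rw [e2, pw_mul hbp]; rfl
        rw [e3, e4, ← conj_pow, h1] }
  exact St2.exists_hom (S := S) fun t u ht hu => S.h_mul_of_finite ht hu

theorem sp_prime_iso (h : IsRankOnePair A B) (hs : Sp A B) {p : ℕ} [hp : Fact p.Prime]
    (hA : ∀ a ∈ A, a ^ p = 1) {a b : G} (d : NData A B a b) :
    Nonempty (closure ({a, b} : Set G) ≃* SL(2, ZMod p)) ∨
      Nonempty (closure ({a, b} : Set G) ≃* ProjectiveSpecialLinearGroup (Fin 2) (ZMod p)) := by
  obtain ⟨φ, h1, h2⟩ := sp_prime_hom h hs hA d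
  have hap := hA a d.ha
  have hbp : b ^ p = 1 := by
    have := congrArg (· ^ p) d.n_b
    simp only [conj_pow, inv_pow, hap, inv_one] at this
    calc b ^ p = (a * b⁻¹ * a)⁻¹ * ((a * b⁻¹ * a) * b ^ p * (a * b⁻¹ * a)⁻¹) * (a * b⁻¹ * a) := by group
      _ = 1 := by rw [this]; group
  have ea : φ (mU 1) = a := by rw [h1, pw_one hap]
  have eb : φ (mL 1) = b := by rw [h2, pw_one hbp]
  have hr : φ.range = closure ({a, b} : Set G) := by
    apply le_antisymm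
    · rw [MonoidHom.range_eq_map, ← upper_sup_lower, Subgroup.map_sup]
      refine sup_le ?_ ?_
      · rintro _ ⟨g, hg, rfl⟩
        obtain ⟨t, rfl⟩ := mem_upper.1 hg
        rw [h1]; exact pow_mem (subset_closure (by simp)) _
      · rintro _ ⟨g, hg, rfl⟩
        obtain ⟨t, rfl⟩ := mem_lower.1 hg
        rw [h2]; exact pow_mem (subset_closure (by simp)) _
    · rw [closure_le]
      rintro _ (rfl | rfl)
      · exact ⟨_, ea⟩
      · exact ⟨_, eb⟩
  rw [← hr]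
  refine sl2_range_iso φ (sl2_ker_le_center φ ⟨1, 1, ?_⟩)
  rw [ea, eb]
  intro e
  exact r1_ne_one_left h d.hb d.e1 (r1_eq_one_of_comm h d.ha d.hb (r1_ne_one_right h d.ha d.e1) e)

end Cfsg.Agent.Root
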