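import Mathlib
import Cfsg.Agent.Root.R3

/-! Abstract root subgroups: basic lemmas. -/

set_option autoImplicit false

namespace Cfsg.Agent.Root

open Subgroup Cfsg.Agent.LocalEven
open scoped commutatorElement

variable {G : Type*} [Group G]

/-- the commutator case, in a convenient form -/
structure CC (A B : Subgroup G) : Prop where
  cl : Com ⁅A, B⁆ A
  cr : Com ⁅A, B⁆ B
  sl : ∀ a ∈ A, a ≠ 1 → ∀ c ∈ ⁅A, B⁆, ∃ b ∈ B, c = ⁅a, b⁆
  sr : ∀ b ∈ B, b ≠ 1 → ∀ c ∈ ⁅A, B⁆, ∃ a ∈ A, c = ⁅a, b⁆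

theorem comm_mul_right_of {A B : Subgroup G} (h : Com ⁅A, B⁆ B) {a b b' : G} (ha : a ∈ A) (hb : b ∈ B)
    (hb' : b' ∈ B) : ⁅a, b * b'⁆ = ⁅a, b⁆ * ⁅a, b'⁆ := by
  have := h _ (commutator_mem_commutator ha hb') b hb
  calc ⁅a, b * b'⁆ = ⁅a, b⁆ * (b * ⁅a, b'⁆) * b⁻¹ := by simp only [commutatorElement_def]; group
    _ = _ := by rw [← this]; group

theorem comm_mul_left_of {A B : Subgroup G} (h : Com ⁅A, B⁆ A) (h2 : Com ⁅A, B⁆ B) {a a' b : G} (ha : a ∈ A)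
    (ha' : a' ∈ A) (hb : b ∈ B) : ⁅a * a', b⁆ = ⁅a, b⁆ * ⁅a', b⁆ := by
  have h1 := h _ (commutator_mem_commutator ha' hb) a ha
  have h3 : ⁅a', b⁆ * ⁅a, b⁆ = ⁅a, b⁆ * ⁅a', b⁆ := by
    have hc := commutator_mem_commutator ha' hb
    exact comm_sup (fun x hx => h _ hc x hx) (fun x hx => h2 _ hc x hx) _
      (mul_mem (mul_mem (mul_mem (mem_sup_left ha) (mem_sup_right hb)) (inv_mem (mem_sup_left ha)))
        (inv_mem (mem_sup_right hb)))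
  calc ⁅a * a', b⁆ = (a * ⁅a', b⁆) * a⁻¹ * ⁅a, b⁆ := by simp only [commutatorElement_def]; group
    _ = ⁅a', b⁆ * ⁅a, b⁆ := by rw [← h1]; group
    _ = _ := h3

theorem comm_inv_right_of {A B : Subgroup G} (h : Com ⁅A, B⁆ B) {a b : G} (ha : a ∈ A) (hb : b ∈ B) :
    ⁅a, b⁻¹⁆ = ⁅a, b⁆⁻¹ := by
  rw [eq_inv_iff_mul_eq_one, ← comm_mul_right_of h ha (inv_mem hb) hb]; simp

theorem comm_inv_left_of {A B : Subgroup G} (h : Com ⁅A, B⁆ A) (h2 : Com ⁅A, B⁆ B) {a b : G} (ha : a ∈ A)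
    (hb : b ∈ B) : ⁅a⁻¹, b⁆ = ⁅a, b⁆⁻¹ := by
  rw [eq_inv_iff_mul_eq_one, ← comm_mul_left_of h h2 (inv_mem ha) ha hb]; simp

theorem cc_of_rcc {S : Set (Subgroup G)} {A B : Subgroup G} (h : RootCommutatorCase S A B) : CC A B := by
  obtain ⟨-, h1, h2, h3⟩ := h
  have cl : Com ⁅A, B⁆ A := fun c hc a ha => h1 c hc a (mem_sup_left ha)
  have cr : Com ⁅A, B⁆ B := fun c hc a ha => h1 c hc a (mem_sup_right ha)
  refine ⟨cl, cr, fun a ha ha1 c hc => ?_, fun b hb hb1 c hc => ?_⟩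
  · rw [← h2 a ha ha1] at hc
    refine closure_induction (p := fun c _ => ∃ b ∈ B, c = ⁅a, b⁆) ?_ ⟨1, one_mem _, by simp⟩ ?_ ?_ hc
    · rintro _ ⟨b, hb, rfl⟩; exact ⟨b, hb, rfl⟩
    · rintro _ _ _ _ ⟨b, hb, rfl⟩ ⟨b', hb', rfl⟩
      exact ⟨b * b', mul_mem hb hb', (comm_mul_right_of cr ha hb hb').symm⟩
    · rintro _ _ ⟨b, hb, rfl⟩
      exact ⟨b⁻¹, inv_mem hb, (comm_inv_right_of cr ha hb).symm⟩
  · rw [← h3 b hb hb1] at hc
    refine closure_induction (p := fun c _ => ∃ a ∈ A, c = ⁅a, b⁆) ?_ ⟨1, one_mem _, by simp⟩ ?_ ?_ hc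
    · rintro _ ⟨a, ha, rfl⟩; exact ⟨a, ha, rfl⟩
    · rintro _ _ _ _ ⟨a, ha, rfl⟩ ⟨a', ha', rfl⟩
      exact ⟨a * a', mul_mem ha ha', (comm_mul_left_of cl cr ha ha' hb).symm⟩
    · rintro _ _ ⟨a, ha, rfl⟩
      exact ⟨a⁻¹, inv_mem ha, (comm_inv_left_of cl cr ha hb).symm⟩

theorem rcc_of_cc {S : Set (Subgroup G)} {A B : Subgroup G} (h : CC A B) (hS : ⁅A, B⁆ ∈ S) :
    RootCommutatorCase S A B := by
  refine ⟨hS, fun c hc => comm_sup (h.cl c hc) (h.cr c hc), fun a ha ha1 => ?_, fun b hb hb1 => ?_⟩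
  · apply le_antisymm
    · rw [closure_le]; rintro _ ⟨b, hb, rfl⟩; exact commutator_mem_commutator ha hb
    · intro c hc
      obtain ⟨b, hb, rfl⟩ := h.sl a ha ha1 c hc
      exact subset_closure ⟨b, hb, rfl⟩
  · apply le_antisymm
    · rw [closure_le]; rintro _ ⟨a, ha, rfl⟩; exact commutator_mem_commutator ha hb
    · intro c hc
      obtain ⟨a, ha, rfl⟩ := h.sr b hb hb1 c hc
      exact subset_closure ⟨a, ha, rfl⟩

theorem cc_of_com {A B : Subgroup G} (h : Com A B) : CC A B := by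
  have e := com_iff.2 h
  refine ⟨?_, ?_, fun a _ _ c hc => ⟨1, one_mem _, ?_⟩, fun a _ _ c hc => ⟨1, one_mem _, ?_⟩⟩
  · rw [e]; intro c hc a _; rw [mem_bot.1 hc]; simp
  · rw [e]; intro c hc a _; rw [mem_bot.1 hc]; simp
  · rw [e] at hc; rw [mem_bot.1 hc]; simp
  · rw [e] at hc; rw [mem_bot.1 hc]; simp

namespace CC

variable {A B : Subgroup G} (h : CC A B)
include h

theorem symm : CC B A := by
  have e : ⁅B, A⁆ = ⁅A, B⁆ := commutator_comm B A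
  refine ⟨e ▸ h.cr, e ▸ h.cl, fun b hb hb1 c hc => ?_, fun a ha ha1 c hc => ?_⟩
  · obtain ⟨a, ha, e1⟩ := h.sr b hb hb1 c⁻¹ (inv_mem (e ▸ hc))
    exact ⟨a, ha, by rw [← commutatorElement_inv, ← e1, inv_inv]⟩
  · obtain ⟨b, hb, e1⟩ := h.sl a ha ha1 c⁻¹ (inv_mem (e ▸ hc))
    exact ⟨b, hb, by rw [← commutatorElement_inv, ← e1, inv_inv]⟩

theorem cself : Com ⁅A, B⁆ ⁅A, B⁆ := (h.cl.sup_right h.cr).mono le_rfl (commutator_le_sup A B)

theorem mul_left {a a' b : G} (ha : a ∈ A) (ha' : a' ∈ A) (hb : b ∈ B) : ⁅a * a', b⁆ = ⁅a, b⁆ * ⁅a', b⁆ :=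
  comm_mul_left_of h.cl h.cr ha ha' hb

theorem mul_right {a b b' : G} (ha : a ∈ A) (hb : b ∈ B) (hb' : b' ∈ B) : ⁅a, b * b'⁆ = ⁅a, b⁆ * ⁅a, b'⁆ :=
  comm_mul_right_of h.cr ha hb hb'

theorem inv_left {a b : G} (ha : a ∈ A) (hb : b ∈ B) : ⁅a⁻¹, b⁆ = ⁅a, b⁆⁻¹ := comm_inv_left_of h.cl h.cr ha hb

theorem inv_right {a b : G} (ha : a ∈ A) (hb : b ∈ B) : ⁅a, b⁻¹⁆ = ⁅a, b⁆⁻¹ := comm_inv_right_of h.cr ha hb

theorem cj_le {b : G} (hb : b ∈ B) : cj b A ≤ A ⊔ ⁅A, B⁆ := by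
  rw [cj_le_iff']
  intro a ha
  have : b * a * b⁻¹ = ⁅a, b⁆⁻¹ * a := by simp only [commutatorElement_def]; group
  rw [this]
  exact mul_mem (mem_sup_right (inv_mem (commutator_mem_commutator ha hb))) (mem_sup_left ha)

theorem com_cj (hA : Com A A) {b : G} (hb : b ∈ B) : Com A (cj b A) :=
  (hA.sup_right h.cl.symm).mono le_rfl (h.cj_le hb)

theorem le_sup_cj {b : G} (hb : b ∈ B) (hb1 : b ≠ 1) : ⁅A, B⁆ ≤ A ⊔ cj b A := by
  intro c hc
  obtain ⟨a, ha, rfl⟩ := h.sr b hb hb1 c hc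
  have : ⁅a, b⁆ = a * (b * a⁻¹ * b⁻¹) := by simp only [commutatorElement_def]; group
  rw [this]
  exact mul_mem (mem_sup_left ha) (mem_sup_right (conj_mem_cj (inv_mem ha)))

theorem sup_cj_eq {b : G} (hb : b ∈ B) (hb1 : b ≠ 1) : A ⊔ cj b A = A ⊔ ⁅A, B⁆ :=
  le_antisymm (sup_le le_sup_left (h.cj_le hb)) (sup_le le_sup_left (h.le_sup_cj hb hb1))

theorem mem_sup_iff {x : G} : x ∈ A ⊔ ⁅A, B⁆ ↔ ∃ a ∈ A, ∃ c ∈ ⁅A, B⁆, a * c = x :=
  mem_sup_iff_of_le_normalizer ((com_iff_le.1 h.cl.symm).trans (centralizer_le_normalizer _))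

theorem cj_line {b : G} (hb : b ∈ B) : cj b (A ⊔ ⁅A, B⁆) = A ⊔ ⁅A, B⁆ := by
  have key : ∀ b ∈ B, cj b (A ⊔ ⁅A, B⁆) ≤ A ⊔ ⁅A, B⁆ := fun b hb => by
    rw [cj_sup, h.cr.symm.cj_eq hb]; exact sup_le (h.cj_le hb) le_sup_right
  exact le_antisymm (key b hb) (le_cj_iff.2 (key _ (inv_mem hb)))

theorem class_two (hA : Com A A) (hB : Com B B) : ⁅A ⊔ B, A ⊔ B⁆ ≤ ⁅A, B⁆ := by
  have hn : A ⊔ B ≤ normalizer ((⁅A, B⁆ : Subgroup G) : Set G) :=
    (com_iff_le.1 (h.cl.sup_right h.cr).symm).trans (centralizer_le_normalizer _)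
  -- elements whose commutators with a fixed element lie in the central subgroup form a subgroup
  have key : ∀ x ∈ A ⊔ B, (∀ a ∈ A, ⁅x, a⁆ ∈ ⁅A, B⁆) → (∀ b ∈ B, ⁅x, b⁆ ∈ ⁅A, B⁆) →
      ∀ y ∈ A ⊔ B, ⁅x, y⁆ ∈ ⁅A, B⁆ := by
    intro x _ h1 h2 y hy
    have hy' := hy
    rw [sup_eq_closure] at hy
    refine closure_induction (p := fun y _ => ⁅x, y⁆ ∈ ⁅A, B⁆) ?_ (by simp) ?_ ?_ hy
    · rintro y (hy | hy)
      · exact h1 y hy
      · exact h2 y hy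
    · intro y z hy _ h3 h4
      rw [← sup_eq_closure] at hy
      have : ⁅x, y * z⁆ = ⁅x, y⁆ * (y * ⁅x, z⁆ * y⁻¹) := by simp only [commutatorElement_def]; group
      rw [this]; exact mul_mem h3 (conj_mem_of_mem_normalizer (hn hy) h4)
    · intro y hy h3
      rw [← sup_eq_closure] at hy
      have : ⁅x, y⁻¹⁆ = y⁻¹ * ⁅x, y⁆⁻¹ * y := by simp only [commutatorElement_def]; group
      rw [this]; exact inv_conj_mem_of_mem_normalizer (hn hy) (inv_mem h3)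
  have c1 : ∀ {C : Subgroup G}, Com C C → ∀ x ∈ C, ∀ y ∈ C, ⁅x, y⁆ ∈ ⁅A, B⁆ := fun hC x hx y hy => by
    rw [commutatorElement_eq_one_iff_mul_comm.2 (hC x hx y hy)]; exact one_mem _
  have c2 : ∀ a ∈ A, ∀ b ∈ B, ⁅b, a⁆ ∈ ⁅A, B⁆ := fun a ha b hb => by
    rw [← commutatorElement_inv]; exact inv_mem (commutator_mem_commutator ha hb)
  rw [commutator_le]
  intro x hx y hy
  refine key x hx (fun a ha => ?_) (fun b hb => ?_) y hy
  · rw [← commutatorElement_inv]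
    exact inv_mem (key a (mem_sup_left ha) (c1 hA a ha) (fun b hb => commutator_mem_commutator ha hb) x hx)
  · rw [← commutatorElement_inv]
    exact inv_mem (key b (mem_sup_right hb) (fun a ha => c2 a ha b hb) (c1 hB b hb) x hx)

theorem class_two' (hA : Com A A) (hB : Com B B) : ⁅⁅A ⊔ B, A ⊔ B⁆, A ⊔ B⁆ = ⊥ :=
  com_iff.2 ((h.cl.sup_right h.cr).mono (h.class_two hA hB) le_rfl)

theorem isNilpotent (hA : Com A A) (hB : Com B B) : Group.IsNilpotent ↥(A ⊔ B) := by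
  rw [isNilpotent_iff_lowerCentralSeries]
  exact ⟨2, h.class_two' hA hB⟩

theorem not_r1 (hA : Com A A) (hB : Com B B) : ¬ IsRankOnePair A B := fun h1 =>
  r1_not_nilpotent h1 (h.isNilpotent hA hB)

/-- if the commutator group meets `A` non-trivially, it is trivial -/
theorem eq_bot_of_mem {x : G} (hx : x ∈ A) (hx1 : x ≠ 1) (hc : ∀ b ∈ B, x * b = b * x) : ⁅A, B⁆ = ⊥ := by
  rw [eq_bot_iff]
  intro c hc'
  obtain ⟨b, hb, rfl⟩ := h.sl x hx hx1 c hc'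
  exact commutatorElement_eq_one_iff_mul_comm.2 (hc b hb)

theorem cj' (g : G) : CC (cj g A) (cj g B) := by
  have hc : ∀ x y : G, g * ⁅x, y⁆ * g⁻¹ = ⁅g * x * g⁻¹, g * y * g⁻¹⁆ := fun x y => by
    simp only [commutatorElement_def]; group
  refine ⟨?_, ?_, fun a ha ha1 c hc' => ?_, fun a ha ha1 c hc' => ?_⟩
  · rw [← cj_commutator]; exact h.cl.cj g
  · rw [← cj_commutator]; exact h.cr.cj g
  · rw [← cj_commutator] at hc'
    obtain ⟨a0, ha0, rfl⟩ := mem_cj'.1 ha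
    obtain ⟨c0, hc0, rfl⟩ := mem_cj'.1 hc'
    obtain ⟨b, hb, rfl⟩ := h.sl a0 ha0 (by rintro rfl; simp at ha1) c0 hc0
    exact ⟨_, conj_mem_cj hb, hc _ _⟩
  · rw [← cj_commutator] at hc'
    obtain ⟨a0, ha0, rfl⟩ := mem_cj'.1 ha
    obtain ⟨c0, hc0, rfl⟩ := mem_cj'.1 hc'
    obtain ⟨b, hb, rfl⟩ := h.sr a0 ha0 (by rintro rfl; simp at ha1) c0 hc0
    exact ⟨_, conj_mem_cj hb, hc _ _⟩

end CC

/-- the axioms of a set of abstract root subgroups, without generation -/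
structure RS (S : Set (Subgroup G)) : Prop where
  com : ∀ A ∈ S, Com A A
  ne_bot : ∀ A ∈ S, A ≠ ⊥
  cj_mem : ∀ A ∈ S, ∀ B ∈ S, ∀ g ∈ B, cj g A ∈ S
  tri : ∀ A ∈ S, ∀ B ∈ S, Com A B ∨ IsRankOnePair A B ∨ (⁅A, B⁆ ∈ S ∧ CC A B)

theorem rs_of {S : Set (Subgroup G)} (h : IsRootSubgroupSet S) : RS S :=
  ⟨fun A hA => com_self (h.commutative A hA), h.ne_bot, fun A hA _ _ g _ => h.conj_mem A hA g,
    fun A hA B hB => (h.pair A hA B hB).imp com_iff.1 (Or.imp_right fun h => ⟨h.1, cc_of_rcc h⟩)⟩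

/-- `A` has a rank one partner in `S` -/
def NI (S : Set (Subgroup G)) (A : Subgroup G) : Prop := ∃ B ∈ S, IsRankOnePair A B

theorem ni_iff {S : Set (Subgroup G)} {A : Subgroup G} (hA : A ∈ S) : ¬ IsIsolatedIn (FAdj S) S A ↔ NI S A := by
  constructor
  · intro h
    by_contra hc
    exact h ⟨hA, fun B => ⟨fun h1 => hc ⟨B, h1.2.1, h1.2.2⟩, fun h1 => hc ⟨B, h1.1, r1_symm h1.2.2⟩⟩⟩
  · rintro ⟨B, hB, h⟩ h1
    exact (h1.2 B).1 ⟨hA, hB, h⟩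

namespace RS

variable {S : Set (Subgroup G)} (hS : RS S)
include hS

theorem exists_ne_one {A : Subgroup G} (hA : A ∈ S) : ∃ a ∈ A, a ≠ 1 := by
  obtain ⟨⟨a, ha⟩, h1⟩ := (ne_bot_iff_exists_ne_one).1 (hS.ne_bot A hA)
  exact ⟨a, ha, fun e => h1 (Subtype.ext e)⟩

theorem cj_mem_sup {A B C : Subgroup G} (hA : A ∈ S) (hB : B ∈ S) (hC : C ∈ S) {g : G} (hg : g ∈ A ⊔ B) :
    cj g C ∈ S := by
  rw [sup_eq_closure] at hg
  revert C
  refine closure_induction'' (p := fun g _ => ∀ {C : Subgroup G}, C ∈ S → cj g C ∈ S) ?_ ?_ ?_ ?_ hg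
  · rintro x (hx | hx) C hC
    · exact hS.cj_mem C hC A hA x hx
    · exact hS.cj_mem C hC B hB x hx
  · rintro x (hx | hx) C hC
    · exact hS.cj_mem C hC A hA _ (inv_mem hx)
    · exact hS.cj_mem C hC B hB _ (inv_mem hx)
  · intro C hC; rwa [cj_one]
  · intro x y _ _ hx hy C hC; rw [cj_mul]; exact hx (hy hC)

theorem om_mem {A B C : Subgroup G} (hA : A ∈ S) (hB : B ∈ S) (hC : C ∈ Om A B) : C ∈ S := by
  obtain ⟨x, hx, rfl⟩ := hC
  exact hS.cj_mem_sup hA hB hA hx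

theorem ni_cj {A C : Subgroup G} (h : NI S A) (hC : C ∈ S) {g : G} (hg : g ∈ C) : NI S (cj g A) := by
  obtain ⟨B, hB, h⟩ := h
  exact ⟨cj g B, hS.cj_mem B hB C hC g hg, r1_cj h g⟩

theorem cc {A B : Subgroup G} (hA : A ∈ S) (hB : B ∈ S) (h : ¬ IsRankOnePair A B) : CC A B := by
  rcases hS.tri A hA B hB with h1 | h1 | h1
  · exact cc_of_com h1
  · exact absurd h1 h
  · exact h1.2

theorem comm_mem {A B : Subgroup G} (hA : A ∈ S) (hB : B ∈ S) (h : ¬ IsRankOnePair A B) (h2 : ¬ Com A B) :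
    ⁅A, B⁆ ∈ S := by
  rcases hS.tri A hA B hB with h1 | h1 | h1
  · exact absurd h1 h2
  · exact absurd h1 h
  · exact h1.1

theorem r1_of_not_com_cj {A B : Subgroup G} (hA : A ∈ S) (hB : B ∈ S) {a : G} (ha : a ∈ A)
    (h : ¬ Com B (cj a B)) : IsRankOnePair A B := by
  by_contra h1
  exact h ((hS.cc hA hB h1).symm.com_cj (hS.com B hB) ha)

theorem r1_of_r1_cj {A B : Subgroup G} (hA : A ∈ S) (hB : B ∈ S) {a : G} (ha : a ∈ A)
    (h : IsRankOnePair B (cj a B)) : IsRankOnePair A B :=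
  hS.r1_of_not_com_cj hA hB ha (r1_not_com h)

theorem not_r1_of_comm_mem {A B : Subgroup G} (hA : A ∈ S) (hB : B ∈ S) (hC : ⁅A, B⁆ ∈ S) :
    ¬ IsRankOnePair A B := by
  intro h
  have hn : A ⊔ B ≤ normalizer ((⁅A, B⁆ : Subgroup G) : Set G) :=
    sup_le (normalizer_commutator_ge_left A B) (normalizer_commutator_ge_right A B)
  have key : ∀ {D : Subgroup G}, D ∈ S → D ≤ A ⊔ B → CC D ⁅A, B⁆ := fun {D} hD hle => by
    refine hS.cc hD hC fun h1 => ?_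
    obtain ⟨d, hd, hd1⟩ := r1_exists h1
    exact hd1 (r1_eq_one h1 hd (cj_eq_of_mem_normalizer (hn (hle hd))))
  have h1 := key hA le_sup_left
  have h2 := key hB le_sup_right
  rcases r1_normal h (commutator_le_sup A B) hn with h3 | h3
  · rw [sup_comm ⁅A, B⁆] at h3
    exact r1_not_nilpotent h (isNilpotent_of_le h3 (h1.isNilpotent (hS.com A hA) (hS.com _ hC)))
  · obtain ⟨a, ha, ha1⟩ := r1_exists h
    obtain ⟨b, hb, hb1⟩ := r1_exists (r1_symm h)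
    refine r1_not_com (r1_cj_self h ha ha1) ?_
    refine ((hS.com B hB).sup_right (h3.mono le_rfl le_sup_right).symm).mono le_rfl ?_
    rw [cj_le_iff']
    intro x hx
    have : a * x * a⁻¹ = ⁅a, x⁆ * x := by simp only [commutatorElement_def]; group
    rw [this]
    exact mul_mem (mem_sup_right (commutator_mem_commutator ha hx)) (mem_sup_left hx)

theorem cc_of_mem {A B : Subgroup G} (hA : A ∈ S) (hB : B ∈ S) (hC : ⁅A, B⁆ ∈ S) : CC A B :=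
  hS.cc hA hB (hS.not_r1_of_comm_mem hA hB hC)

theorem not_com_of_mem {A B : Subgroup G} (hC : ⁅A, B⁆ ∈ S) : ¬ Com A B := fun h =>
  hS.ne_bot _ hC (com_iff.2 h)

/-- a member of `S` inside a rank one group `Y` is central in `Y` or unipotent -/
theorem mem_om_or_com {A C D : Subgroup G} (hA : A ∈ S) (hC : C ∈ S) (hD : D ∈ S) (h : IsRankOnePair C D)
    (hle : A ≤ C ⊔ D) : A ∈ Om C D ∨ Com A (C ⊔ D) := by
  by_cases h1 : ∃ F ∈ Om C D, IsRankOnePair F A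
  · left
    obtain ⟨F, hF, h1⟩ := h1
    obtain ⟨x, hx, e⟩ := right_mem_om h1
    rw [e]
    exact cj_mem_om hF (sup_le (le_of_mem_om hF) hle hx)
  · right
    push Not at h1
    have hfix : ∀ F ∈ Om C D, ∀ a ∈ A, cj a F = F := by
      intro F hF a ha
      have hFS := hS.om_mem hC hD hF
      exact (om_eq_of_com h hF (cj_mem_om hF (hle ha))
        ((hS.cc hFS hA (h1 F hF)).com_cj (hS.com F hFS) ha)).symm
    have key : ∀ {C' D' : Subgroup G}, C' ∈ Om C D → D' ∈ Om C D → C' ≠ D' → Com A C' := by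
      intro C' D' h2 h3 h4 a ha c hc
      have h5 : ⁅a, c⁆ ∈ C' := by
        refine mul_mem ?_ (inv_mem hc)
        rw [← hfix C' h2 a ha]; exact conj_mem_cj hc
      refine commutatorElement_eq_one_iff_mul_comm.1 (r1_eq_one (om_r1 h h2 h3 h4) h5 ?_)
      rw [commutatorElement_def, cj_mul, cj_mul, cj_mul,
        hfix _ (cj_mem_om h3 (inv_mem (le_of_mem_om h2 hc))) _ (inv_mem ha), cj_cj_inv, hfix _ h3 _ ha]
    exact (key left_mem_om (right_mem_om h) h.ne).sup_right (key (right_mem_om h) left_mem_om h.ne.symm)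

theorem mem_om_of_le {A B C D : Subgroup G} (hA : A ∈ S) (hC : C ∈ S) (hD : D ∈ S) (h : IsRankOnePair C D)
    (h1 : IsRankOnePair A B) (hle : A ⊔ B ≤ C ⊔ D) : A ∈ Om C D :=
  (hS.mem_om_or_com hA hC hD h (le_sup_left.trans hle)).resolve_right fun hc =>
    r1_not_com h1 (hc.mono le_rfl (le_sup_right.trans hle))

theorem om_eq_of_le {A B C D : Subgroup G} (hA : A ∈ S) (hB : B ∈ S) (hC : C ∈ S) (hD : D ∈ S)
    (h : IsRankOnePair C D) (h1 : IsRankOnePair A B) (hle : A ⊔ B ≤ C ⊔ D) :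
    A ⊔ B = C ⊔ D ∧ Om A B = Om C D := by
  have h2 := hS.mem_om_of_le hA hC hD h h1 hle
  have h3 := hS.mem_om_of_le hB hC hD h (r1_symm h1) (by rwa [sup_comm])
  exact ⟨om_sup h h2 h3 h1.ne, om_om h h2 h3 h1.ne⟩

/-- if `C` contains an element acting on `B` like a non-trivial element of `A`, then `C` is unipotent in `⟨A, B⟩` -/
theorem mem_om_of_cj_eq {A B C : Subgroup G} (hA : A ∈ S) (hB : B ∈ S) (hC : C ∈ S) (h : IsRankOnePair A B)
    {a c : G} (ha : a ∈ A) (ha1 : a ≠ 1) (hc : c ∈ C) (e : cj c B = cj a B) :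
    C ∈ Om A B ∧ IsRankOnePair C B := by
  have h1 := r1_cj_self h ha ha1
  have h2 : IsRankOnePair C B := hS.r1_of_r1_cj hC hB hc (e ▸ h1)
  have hc1 : c ≠ 1 := by rintro rfl; rw [cj_one] at e; exact h1.ne e
  have h3 : C ⊔ B = A ⊔ B := by rw [← sup_cj_self h2 hc hc1, e, sup_cj_self h ha ha1]
  exact ⟨hS.mem_om_of_le hC hA hB h h2 h3.le, h2⟩

/-- (2.2) -/
theorem eq_one_of_mul_mem {A B C : Subgroup G} (hA : A ∈ S) (hB : B ∈ S) (hC : C ∈ S) (h : IsRankOnePair A B)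
    {z a : G} (hzA : ∀ x ∈ A, z * x = x * z) (hzB : ∀ x ∈ B, z * x = x * z) (ha : a ∈ A) (ha1 : a ≠ 1)
    (hza : z * a ∈ C) : z = 1 := by
  have e : cj (z * a) B = cj a B := by
    rw [hzA a ha, cj_mul, cj_eq_of_comm hzB]
  obtain ⟨h1, h2⟩ := hS.mem_om_of_cj_eq hA hB hC h ha ha1 hza e
  have hne : z * a ≠ 1 := by
    intro e1; rw [e1, cj_one] at e; exact (r1_cj_self h ha ha1).ne e
  have h3 : C = A := om_eq_of_mem h h1 left_mem_om hza hne (by rw [cj_mul, cj_eq_of_mem ha, cj_eq_of_comm hzA])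
  rw [h3] at hza
  exact r1_center_inf h (by simpa using mul_mem hza (inv_mem ha)) hzB

/-- TI property of non-isolated members -/
theorem ti {A B : Subgroup G} (hA : A ∈ S) (hB : B ∈ S) (h : NI S A) {x : G} (hxA : x ∈ A) (hxB : x ∈ B)
    (hx1 : x ≠ 1) : A = B := by
  obtain ⟨C, hC, h⟩ := h
  obtain ⟨h1, -⟩ := hS.mem_om_of_cj_eq hA hC hB h hxA hx1 hxB rfl
  exact (om_eq_of_mem h h1 left_mem_om hxB hx1 (cj_eq_of_mem hxA)).symm

theorem cj_eq_of_comm_elt {A : Subgroup G} (hA : A ∈ S) (h : NI S A) {a g : G} (hg : cj g A ∈ S) (ha : a ∈ A)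
    (ha1 : a ≠ 1) (e : g * a = a * g) : cj g A = A := by
  refine (hS.ti hA hg h ha ?_ ha1).symm
  have : a = g * a * g⁻¹ := by rw [e]; group
  rw [this]; exact conj_mem_cj ha

end RS

end Cfsg.Agent.Root
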