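import Mathlib
import Cfsg.Agent.Root.A1

/-! Abstract root subgroups: lines, nilpotent triples. -/

set_option autoImplicit false

namespace Cfsg.Agent.Root

open Subgroup Cfsg.Agent.LocalEven
open scoped commutatorElement

variable {G : Type*} [Group G]

/-- upper central series of a subgroup, in the ambient group -/
def Zc (R : Subgroup G) (n : ℕ) : Subgroup G := (Subgroup.upperCentralSeries R n).map R.subtype

theorem mem_Zc {R : Subgroup G} {n : ℕ} {x : G} (hx : x ∈ R) :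
    x ∈ Zc R n ↔ (⟨x, hx⟩ : R) ∈ Subgroup.upperCentralSeries R n :=
  mem_map_subtype (x := ⟨x, hx⟩)

theorem Zc_le (R : Subgroup G) (n : ℕ) : Zc R n ≤ R := map_subtype_le _

theorem Zc_mono (R : Subgroup G) {m n : ℕ} (h : m ≤ n) : Zc R m ≤ Zc R n :=
  map_mono (Subgroup.upperCentralSeries_mono R h)

theorem le_normalizer_Zc (R : Subgroup G) (n : ℕ) : R ≤ normalizer (Zc R n : Set G) :=
  le_normalizer_map_subtype _

theorem isNilpotent_of_le_Zc {R : Subgroup G} {n : ℕ} (h : R ≤ Zc R n) : Group.IsNilpotent R :=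
  ⟨⟨n, eq_top_iff.2 fun x _ => (mem_Zc x.2).1 (h x.2)⟩⟩

/-- elements whose commutator with `x` lies in `T` -/
def cmod (R T : Subgroup G) (hT : R ≤ normalizer (T : Set G)) (x : G) : Subgroup G where
  carrier := {y | y ∈ R ∧ ⁅x, y⁆ ∈ T}
  one_mem' := ⟨one_mem _, by simp⟩
  mul_mem' := fun {y z} hy hz => ⟨mul_mem hy.1 hz.1, by
    have : ⁅x, y * z⁆ = ⁅x, y⁆ * (y * ⁅x, z⁆ * y⁻¹) := by simp only [commutatorElement_def]; group
    rw [this]; exact mul_mem hy.2 (conj_mem_of_mem_normalizer (hT hy.1) hz.2)⟩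
  inv_mem' := fun {y} hy => ⟨inv_mem hy.1, by
    have : ⁅x, y⁻¹⁆ = y⁻¹ * ⁅x, y⁆⁻¹ * y := by simp only [commutatorElement_def]; group
    rw [this]; exact inv_conj_mem_of_mem_normalizer (hT hy.1) (inv_mem hy.2)⟩

theorem mem_Zc_succ {R : Subgroup G} {n : ℕ} {x : G} (hx : x ∈ R) (h : ∀ y ∈ R, ⁅x, y⁆ ∈ Zc R n) :
    x ∈ Zc R (n + 1) := by
  rw [mem_Zc hx, Subgroup.mem_upperCentralSeries_succ_iff]
  intro y
  exact (mem_Zc _).1 (h y y.2)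

theorem mem_Zc_succ3 {A B C : Subgroup G} {n : ℕ} {x : G} (hx : x ∈ A ⊔ B ⊔ C)
    (h1 : ∀ y ∈ A, ⁅x, y⁆ ∈ Zc (A ⊔ B ⊔ C) n) (h2 : ∀ y ∈ B, ⁅x, y⁆ ∈ Zc (A ⊔ B ⊔ C) n)
    (h3 : ∀ y ∈ C, ⁅x, y⁆ ∈ Zc (A ⊔ B ⊔ C) n) : x ∈ Zc (A ⊔ B ⊔ C) (n + 1) := by
  have : A ⊔ B ⊔ C ≤ cmod (A ⊔ B ⊔ C) _ (le_normalizer_Zc _ n) x :=
    sup_le (sup_le (fun y hy => ⟨mem_sup_left (mem_sup_left hy), h1 y hy⟩)
      (fun y hy => ⟨mem_sup_left (mem_sup_right hy), h2 y hy⟩)) (fun y hy => ⟨mem_sup_right hy, h3 y hy⟩)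
  exact mem_Zc_succ hx fun y hy => (this hy).2

theorem comm_mem_of_comm {T : Subgroup G} {x y : G} (h : x * y = y * x) : ⁅x, y⁆ ∈ T := by
  rw [commutatorElement_eq_one_iff_mul_comm.2 h]; exact one_mem _

theorem class_two_sup {X Y : Subgroup G} (h : Com X Y) (hX : ⁅⁅X, X⁆, X⁆ = ⊥) (hY : ⁅⁅Y, Y⁆, Y⁆ = ⊥) :
    Com ⁅X ⊔ Y, X ⊔ Y⁆ (X ⊔ Y) := by
  have hn : X ≤ normalizer (Y : Set G) := (com_iff_le.1 h).trans (centralizer_le_normalizer _)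
  have h1 : Com (⁅X, X⁆ ⊔ ⁅Y, Y⁆) (X ⊔ Y) :=
    Com.sup_left ((com_iff.1 hX).sup_right (h.mono (commutator_le_self X) le_rfl))
      ((h.symm.mono (commutator_le_self Y) le_rfl).sup_right (com_iff.1 hY))
  refine h1.mono ?_ le_rfl
  rw [commutator_le]
  intro u hu v hv
  obtain ⟨x, hx, y, hy, rfl⟩ := (mem_sup_iff_of_le_normalizer hn).1 hu
  obtain ⟨x', hx', y', hy', rfl⟩ := (mem_sup_iff_of_le_normalizer hn).1 hv
  have c1 : Commute x y := h x hx y hy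
  have c2 : Commute x y' := h x hx y' hy'
  have c3 : Commute x' y := h x' hx' y hy
  have c4 : Commute x' y' := h x' hx' y' hy'
  have e : ⁅x * y, x' * y'⁆ = ⁅x, x'⁆ * ⁅y, y'⁆ := by
    simp only [commutatorElement_def, mul_inv_rev]
    have d1 : Commute (y * y' * y⁻¹) x⁻¹ := ((c1.mul_right c2).mul_right c1.inv_right).symm.inv_right
    have d2 : Commute (y * y' * y⁻¹ * y'⁻¹) x'⁻¹ :=
      (((c3.mul_right c4).mul_right c3.inv_right).mul_right c4.inv_right).symm.inv_right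
    calc x * y * (x' * y') * (y⁻¹ * x⁻¹) * (y'⁻¹ * x'⁻¹)
        = x * (y * x') * y' * y⁻¹ * x⁻¹ * y'⁻¹ * x'⁻¹ := by group
      _ = x * x' * (y * y' * y⁻¹ * x⁻¹) * y'⁻¹ * x'⁻¹ := by rw [← c3.eq]; group
      _ = x * x' * x⁻¹ * (y * y' * y⁻¹ * y'⁻¹ * x'⁻¹) := by rw [d1.eq]; group
      _ = _ := by rw [d2.eq]; group
  rw [e]
  exact mul_mem (mem_sup_left (commutator_mem_commutator hx hx')) (mem_sup_right (commutator_mem_commutator hy hy'))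

theorem CC.mem_cj {A B : Subgroup G} (h : CC A B) {a c : G} (ha : a ∈ A) (ha1 : a ≠ 1) (hc : c ∈ ⁅A, B⁆) :
    ∃ b ∈ B, a * c = b * a * b⁻¹ := by
  obtain ⟨b, hb, rfl⟩ := h.sl a ha ha1 c hc
  refine ⟨b⁻¹, inv_mem hb, ?_⟩
  rw [← h.cl _ hc a ha, ← inv_inv ⁅a, b⁆, ← h.inv_right ha hb]
  simp only [commutatorElement_def]; group

theorem CC.inf_eq_one {A B : Subgroup G} (h : CC A B) (hne : ⁅A, B⁆ ≠ ⊥) {x : G} (h1 : x ∈ A) (h2 : x ∈ ⁅A, B⁆) :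
    x = 1 := by
  by_contra hx
  exact hne (h.eq_bot_of_mem h1 hx (h.cr x h2))

theorem CC.comm_inj {A C D : Subgroup G} (hcc : CC C D) (hne : ⁅C, D⁆ ≠ ⊥) (h : IsRankOnePair A D)
    (hAC : Com A C) {c d : G} (hc : c ∈ C) (hd : d ∈ D) (hd1 : d ≠ 1) (e : c * d = d * c) : c = 1 := by
  by_contra hc1
  refine hne (hcc.eq_bot_of_mem hc hc1 fun x hx => ?_)
  have h1 : ∀ y ∈ cj d A, c * y = y * c := by
    intro y hy
    obtain ⟨a, ha, rfl⟩ := mem_cj'.1 hy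
    have c1 : Commute c d := e
    have c2 : Commute c a := (hAC a ha c hc).symm
    exact ((c1.mul_right c2).mul_right c1.inv_right).eq
  refine comm_sup (fun a ha => (hAC a ha c hc).symm) h1 x ?_
  rw [sup_cj_self (r1_symm h) hd hd1]; exact mem_sup_left hx

/-- every non-identity element of `A ⊔ B` lies in a member of `S` inside `A ⊔ B` -/
def Cov (S : Set (Subgroup G)) (L : Subgroup G) : Prop := ∀ x ∈ L, x ≠ 1 → ∃ C ∈ S, C ≤ L ∧ x ∈ C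

namespace RS

variable {S : Set (Subgroup G)} (hS : RS S)
include hS

theorem le_eq_aux {A C D E : Subgroup G} (hC : C ∈ S) (hD : D ∈ S) (hE : E ∈ S) (h : IsRankOnePair A D)
    (hAC : Com A C) (hcc : CC C D) (hne : ⁅C, D⁆ ≠ ⊥) (hle : E ≤ C) : E = C := by
  have hED : CC E D := hS.cc hE hD fun h1 =>
    r1_not_le_nilpotent h1 (hcc.isNilpotent (hS.com C hC) (hS.com D hD)) (hle.trans le_sup_left) le_sup_right
  obtain ⟨e, he, he1⟩ := hS.exists_ne_one hE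
  obtain ⟨d, hd, hd1⟩ := hS.exists_ne_one hD
  refine le_antisymm hle fun c hc => ?_
  have h1 : ⁅c, d⁆ ∈ ⁅E, D⁆ := by
    obtain ⟨d', hd', e1⟩ := hcc.sl e (hle he) he1 _ (commutator_mem_commutator hc hd)
    rw [e1]; exact commutator_mem_commutator he hd'
  obtain ⟨e', he', e2⟩ := hED.sr d hd hd1 _ h1
  have h2 : c * e'⁻¹ = 1 := by
    refine hcc.comm_inj hne h hAC (mul_mem hc (inv_mem (hle he'))) hd hd1 ?_
    rw [← commutatorElement_eq_one_iff_mul_comm, hcc.mul_left hc (inv_mem (hle he')) hd,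
      hcc.inv_left (hle he') hd, e2, mul_inv_cancel]
  rw [mul_inv_eq_one.1 h2]; exact he'

theorem line_inj {A B : Subgroup G} (hA : A ∈ S) (hB : B ∈ S) (hC : ⁅A, B⁆ ∈ S) (hni : NI S A) {a b : G}
    (ha : a ∈ A) (ha1 : a ≠ 1) (hb : b ∈ B) (e : a * b = b * a) : b = 1 := by
  by_contra hb1
  have hcc := hS.cc_of_mem hA hB hC
  have h1 := hS.cj_eq_of_comm_elt hA hni (hS.cj_mem A hA B hB b hb) ha ha1 e.symm
  have h2 := hcc.le_sup_cj hb hb1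
  rw [h1, sup_idem] at h2
  obtain ⟨c, hc, hc1⟩ := hS.exists_ne_one hC
  exact hc1 (hcc.inf_eq_one (hS.ne_bot _ hC) (h2 hc) hc)

theorem line_cj_ne {A B : Subgroup G} (hA : A ∈ S) (hB : B ∈ S) (hC : ⁅A, B⁆ ∈ S) {b : G} (hb : b ∈ B) :
    cj b A ≠ ⁅A, B⁆ := by
  intro e
  have hcc := hS.cc_of_mem hA hB hC
  rw [cj_eq_iff, hcc.cr.symm.cj_eq (inv_mem hb)] at e
  obtain ⟨c, hc, hc1⟩ := hS.exists_ne_one hA
  exact hc1 (hcc.inf_eq_one (hS.ne_bot _ hC) hc (e ▸ hc))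

theorem line_ne {A B : Subgroup G} (hA : A ∈ S) (hB : B ∈ S) (hC : ⁅A, B⁆ ∈ S) : A ≠ ⁅A, B⁆ := by
  have := hS.line_cj_ne hA hB hC (one_mem B)
  rwa [cj_one] at this

theorem line_cj_ne_self {A B : Subgroup G} (hA : A ∈ S) (hB : B ∈ S) (hC : ⁅A, B⁆ ∈ S) {b : G} (hb : b ∈ B)
    (hb1 : b ≠ 1) : cj b A ≠ A := by
  intro h1
  have hcc := hS.cc_of_mem hA hB hC
  have h2 := hcc.le_sup_cj hb hb1
  rw [h1, sup_idem] at h2
  obtain ⟨c, hc, hc1⟩ := hS.exists_ne_one hC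
  exact hc1 (hcc.inf_eq_one (hS.ne_bot _ hC) (h2 hc) hc)

theorem line_eq_of_le {A B E : Subgroup G} (hA : A ∈ S) (hB : B ∈ S) (hC : ⁅A, B⁆ ∈ S) (hni : NI S A)
    (hE : E ∈ S) (hle : E ≤ ⁅A, B⁆) : E = ⁅A, B⁆ := by
  have hcc := hS.cc_of_mem hA hB hC
  obtain ⟨D, hD, h⟩ := hni
  by_cases h1 : IsRankOnePair ⁅A, B⁆ D
  · obtain ⟨e, he, he1⟩ := hS.exists_ne_one hE
    exact (hS.ti hC hE ⟨D, hD, h1⟩ (hle he) he he1).symm
  by_cases h2 : Com ⁅A, B⁆ D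
  · exfalso
    obtain ⟨a, ha, ha1⟩ := hS.exists_ne_one hA
    obtain ⟨c, hc, hc1⟩ := hS.exists_ne_one hC
    obtain ⟨b, hb, e⟩ := hcc.mem_cj ha ha1 hc
    refine hc1 (hS.eq_one_of_mul_mem hA hD (hS.cj_mem A hA B hB b hb) h (hcc.cl c hc) (h2 c hc) ha ha1 ?_)
    rw [hcc.cl c hc a ha, e]; exact conj_mem_cj ha
  · exact hS.le_eq_aux hC hD hE h hcc.cl.symm (hS.cc hC hD h1) (fun e => h2 (com_iff.1 e)) hle

theorem line_mem {A B E : Subgroup G} (hA : A ∈ S) (hB : B ∈ S) (hC : ⁅A, B⁆ ∈ S) (hni : NI S A)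
    (hE : E ∈ S) {x : G} (hxE : x ∈ E) (hx : x ∈ A ⊔ ⁅A, B⁆) (hxC : x ∉ ⁅A, B⁆) : ∃ b ∈ B, E = cj b A := by
  have hcc := hS.cc_of_mem hA hB hC
  obtain ⟨a, ha, c, hc, rfl⟩ := hcc.mem_sup_iff.1 hx
  have ha1 : a ≠ 1 := by rintro rfl; exact hxC (by simpa using hc)
  obtain ⟨b, hb, e⟩ := hcc.mem_cj ha ha1 hc
  refine ⟨b, hb, (hS.ti (hS.cj_mem A hA B hB b hb) hE (hS.ni_cj hni hB hb) (e ▸ conj_mem_cj ha) hxE ?_).symm⟩
  rintro e1; exact hxC (e1 ▸ one_mem _)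

theorem line_members {A B E : Subgroup G} (hA : A ∈ S) (hB : B ∈ S) (hC : ⁅A, B⁆ ∈ S) (hni : NI S A)
    (hE : E ∈ S) (hle : E ≤ A ⊔ ⁅A, B⁆) : E = ⁅A, B⁆ ∨ ∃ b ∈ B, E = cj b A := by
  by_cases h : E ≤ ⁅A, B⁆
  · exact Or.inl (hS.line_eq_of_le hA hB hC hni hE h)
  · obtain ⟨x, hx, hx'⟩ := SetLike.not_le_iff_exists.1 h
    exact Or.inr (hS.line_mem hA hB hC hni hE hx (hle hx) hx')

theorem line_cov {A B : Subgroup G} (hA : A ∈ S) (hB : B ∈ S) (hC : ⁅A, B⁆ ∈ S) : Cov S (A ⊔ ⁅A, B⁆) := by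
  have hcc := hS.cc_of_mem hA hB hC
  intro x hx _
  obtain ⟨a, ha, c, hc, rfl⟩ := hcc.mem_sup_iff.1 hx
  by_cases ha1 : a = 1
  · exact ⟨_, hC, le_sup_right, by rw [ha1, one_mul]; exact hc⟩
  · obtain ⟨b, hb, e⟩ := hcc.mem_cj ha ha1 hc
    exact ⟨_, hS.cj_mem A hA B hB b hb, hcc.cj_le hb, e ▸ conj_mem_cj ha⟩

theorem line_partition {A B : Subgroup G} (hA : A ∈ S) (hB : B ∈ S) (hC : ⁅A, B⁆ ∈ S) (hni : NI S A) :
    IsSubgroupPartition (A ⊔ ⁅A, B⁆) (membersIn S (A ⊔ ⁅A, B⁆)) := by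
  refine ⟨fun C hC => hC.2, fun x hx hx1 => ?_, fun E hE E' hE' hne => ?_⟩
  · obtain ⟨C, h1, h2, h3⟩ := hS.line_cov hA hB hC x hx hx1
    exact ⟨C, ⟨h1, h2⟩, h3⟩
  · rw [eq_bot_iff]
    intro x hx
    by_contra hx1
    rcases hS.line_members hA hB hC hni hE.1 hE.2 with e | ⟨b, hb, e⟩
    · rcases hS.line_members hA hB hC hni hE'.1 hE'.2 with e' | ⟨b, hb, e'⟩
      · exact hne (e.trans e'.symm)
      · exact hne (hS.ti hE'.1 hE.1 (e' ▸ hS.ni_cj hni hB hb) hx.2 hx.1 hx1).symm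
    · exact hne (hS.ti hE.1 hE'.1 (e ▸ hS.ni_cj hni hB hb) hx.1 hx.2 hx1)

theorem not_r1_cj {A B C : Subgroup G} (hA : A ∈ S) (hB : B ∈ S) (hC : C ∈ S) (hAC : Com A C)
    (h2 : CC C B) {b : G} (hb : b ∈ B) : ¬ IsRankOnePair A (cj b C) ∨ IsRankOnePair A B := by
  by_cases hAB : IsRankOnePair A B
  · exact Or.inr hAB
  left
  intro h
  obtain ⟨x, hx, hx1⟩ := r1_exists (r1_symm h)
  obtain ⟨c, hc, f, hf, rfl⟩ := h2.mem_sup_iff.1 (h2.cj_le hb hx)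
  have e : cj f A = cj (c * f) A := by
    rw [← h2.cl f hf c hc, cj_mul, hAC.symm.cj_eq hc]
  have hF : ⁅C, B⁆ ∈ S := by
    refine hS.comm_mem hC hB (h2.not_r1 (hS.com C hC) (hS.com B hB)) fun h3 => ?_
    rw [h3.symm.cj_eq hb] at h
    exact r1_not_com h hAC
  have hbC := hS.cj_mem C hC B hB b hb
  obtain ⟨h3, -⟩ := hS.mem_om_of_cj_eq hbC hA hF (r1_symm h) hx hx1 hf e
  exact hS.line_cj_ne hC hB hF hb (om_eq_of_com (r1_symm h) left_mem_om h3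
    (((h2.cl.sup_right h2.cself).mono le_rfl (h2.cj_le hb)).symm))

theorem cc_cj {A B C : Subgroup G} (hA : A ∈ S) (hB : B ∈ S) (hC : C ∈ S) (hAC : Com A C)
    (h1 : CC A B) (h2 : CC C B) {b : G} (hb : b ∈ B) : CC A (cj b C) :=
  hS.cc hA (hS.cj_mem C hC B hB b hb)
    ((hS.not_r1_cj hA hB hC hAC h2 hb).resolve_right (h1.not_r1 (hS.com A hA) (hS.com B hB)))

theorem nil3_com {A B C : Subgroup G} (hA : A ∈ S) (hC : C ∈ S) (hAC : Com A C)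
    (h1 : CC A B) (h2 : CC C B) {b : G} (hb : b ∈ B) : Com (A ⊔ cj b C) (cj b A ⊔ C) :=
  Com.sup_left ((h1.com_cj (hS.com A hA) hb).sup_right hAC)
    ((hAC.symm.cj b).sup_right (h2.com_cj (hS.com C hC) hb).symm)

theorem nil3_class {A B C : Subgroup G} (hA : A ∈ S) (hB : B ∈ S) (hC : C ∈ S) (hAC : Com A C)
    (h1 : CC A B) (h2 : CC C B) {b : G} (hb : b ∈ B) : ⁅⁅A ⊔ cj b C, A ⊔ cj b C⁆, A ⊔ cj b C⁆ = ⊥ :=
  (hS.cc_cj hA hB hC hAC h1 h2 hb).class_two' (hS.com A hA) ((hS.com C hC).cj b)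

theorem nil3 {A B C : Subgroup G} (hA : A ∈ S) (hB : B ∈ S) (hC : C ∈ S) (hAC : Com A C)
    (h1 : CC A B) (h2 : CC C B) : Group.IsNilpotent ↥(A ⊔ B ⊔ C) := by
  obtain ⟨b0, hb0, hb01⟩ := hS.exists_ne_one hB
  set P := (A ⊔ cj b0 C) ⊔ (cj b0 A ⊔ C) with hP
  have hPc : Com ⁅P, P⁆ P := class_two_sup (hS.nil3_com hA hC hAC h1 h2 hb0) (hS.nil3_class hA hB hC hAC h1 h2 hb0)
    (by rw [sup_comm]; exact hS.nil3_class hC hB hA hAC.symm h2 h1 hb0)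
  have hAP : A ≤ P := le_sup_left.trans le_sup_left
  have hCP : C ≤ P := le_sup_right.trans le_sup_right
  have hEP : ⁅A, B⁆ ≤ P := (h1.le_sup_cj hb0 hb01).trans (sup_le hAP (le_sup_left.trans le_sup_right))
  have hFP : ⁅C, B⁆ ≤ P := (h2.le_sup_cj hb0 hb01).trans (sup_le hCP (le_sup_right.trans le_sup_left))
  set R := A ⊔ B ⊔ C with hR
  have hAR : A ≤ R := le_sup_left.trans le_sup_left
  have hBR : B ≤ R := le_sup_right.trans le_sup_left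
  have hCR : C ≤ R := le_sup_right
  have hcR : ∀ {x y : G}, x ∈ R → y ∈ R → ⁅x, y⁆ ∈ R := fun hx hy =>
    commutator_le_self R (commutator_mem_commutator hx hy)
  have hER : ⁅A, B⁆ ≤ R := (commutator_le_sup A B).trans le_sup_left
  have hFR : ⁅C, B⁆ ≤ R := (commutator_le_sup C B).trans (sup_le hCR hBR)
  have hPP : ∀ {u v w : G}, u ∈ P → v ∈ P → w ∈ P → ⁅u, v⁆ * w = w * ⁅u, v⁆ := fun hu hv hw =>
    hPc _ (commutator_mem_commutator hu hv) _ hw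
  have s1 : ∀ e ∈ ⁅A, B⁆, ∀ f ∈ ⁅C, B⁆, ⁅e, f⁆ ∈ Zc R 1 := by
    intro e he f hf
    refine mem_Zc_succ3 (hcR (hER he) (hFR hf)) (fun y hy => comm_mem_of_comm (hPP (hEP he) (hFP hf) (hAP hy)))
      (fun y hy => comm_mem_of_comm ?_) (fun y hy => comm_mem_of_comm (hPP (hEP he) (hFP hf) (hCP hy)))
    have c1 : Commute e y := h1.cr e he y hy
    have c2 : Commute f y := h2.cr f hf y hy
    exact (((c1.mul_left c2).mul_left c1.inv_left).mul_left c2.inv_left).eq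
  -- generic second step
  have s2 : ∀ {U W : Subgroup G}, U ≤ P → U ≤ R → ⁅U, B⁆ ≤ P → W ≤ P → W ≤ R → Com W B →
      (∀ e ∈ ⁅U, B⁆, ∀ f ∈ W, ⁅e, f⁆ ∈ Zc R 1) → ∀ a ∈ U, ∀ f ∈ W, ⁅a, f⁆ ∈ Zc R 2 := by
    intro U W hU hUR hUB hW hWR hWB hs a ha f hf
    refine mem_Zc_succ3 (hcR (hUR ha) (hWR hf)) (fun y hy => comm_mem_of_comm (hPP (hU ha) (hW hf) (hAP hy)))
      (fun y hy => ?_) (fun y hy => comm_mem_of_comm (hPP (hU ha) (hW hf) (hCP hy)))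
    have he : ⁅a, y⁆⁻¹ ∈ ⁅U, B⁆ := inv_mem (commutator_mem_commutator ha hy)
    have c2 : f * y = y * f := hWB f hf y hy
    have e1 : y * ⁅a, f⁆ * y⁻¹ = ⁅⁅a, y⁆⁻¹ * a, f⁆ := by
      have : y * f * y⁻¹ = f := by rw [← c2]; group
      conv_rhs => rw [← this]
      simp only [commutatorElement_def]; group
    have e2 : ⁅⁅a, y⁆⁻¹ * a, f⁆ = ⁅a, f⁆ * ⁅⁅a, y⁆⁻¹, f⁆ := by
      have := hPP (hU ha) (hW hf) (hUB he)
      calc _ = (⁅a, y⁆⁻¹ * ⁅a, f⁆) * ⁅a, y⁆ * ⁅⁅a, y⁆⁻¹, f⁆ := by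
            generalize ⁅a, y⁆ = e
            simp only [commutatorElement_def]; group
        _ = _ := by rw [← this]; group
    have e3 : ⁅⁅a, f⁆, y⁆ = ⁅a, f⁆ * (y * ⁅a, f⁆ * y⁻¹)⁻¹ := by
      generalize ⁅a, f⁆ = e
      simp only [commutatorElement_def]; group
    rw [e3, e1, e2, mul_inv_rev, ← mul_assoc]
    exact conj_mem_of_mem_normalizer (le_normalizer_Zc R 1 (hcR (hUR ha) (hWR hf))) (inv_mem (hs _ he f hf))
  have s2a := s2 hAP hAR hEP hFP hFR h2.cr s1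
  have s2b := s2 hCP hCR hFP hEP hER h1.cr fun e he f hf => by
    rw [← commutatorElement_inv]; exact inv_mem (s1 f hf e he)
  have s3a : ⁅A, B⁆ ≤ Zc R 3 := fun e he =>
    mem_Zc_succ3 (hER he) (fun y hy => comm_mem_of_comm (h1.cl e he y hy))
      (fun y hy => comm_mem_of_comm (h1.cr e he y hy))
      (fun y hy => by rw [← commutatorElement_inv]; exact inv_mem (s2b y hy e he))
  have s3b : ⁅C, B⁆ ≤ Zc R 3 := fun e he =>
    mem_Zc_succ3 (hFR he) (fun y hy => by rw [← commutatorElement_inv]; exact inv_mem (s2a y hy e he))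
      (fun y hy => comm_mem_of_comm (h2.cr e he y hy))
      (fun y hy => comm_mem_of_comm (h2.cl e he y hy))
  refine isNilpotent_of_le_Zc (n := 4) (sup_le (sup_le (fun a ha => ?_) (fun b hb => ?_)) (fun c hc => ?_))
  · exact mem_Zc_succ3 (hAR ha) (fun y hy => comm_mem_of_comm (hS.com A hA a ha y hy))
      (fun y hy => s3a (commutator_mem_commutator ha hy)) (fun y hy => comm_mem_of_comm (hAC a ha y hy))
  · exact mem_Zc_succ3 (hBR hb)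
      (fun y hy => by rw [← commutatorElement_inv]; exact inv_mem (s3a (commutator_mem_commutator hy hb)))
      (fun y hy => comm_mem_of_comm (hS.com B hB b hb y hy))
      (fun y hy => by rw [← commutatorElement_inv]; exact inv_mem (s3b (commutator_mem_commutator hy hb)))
  · exact mem_Zc_succ3 (hCR hc) (fun y hy => comm_mem_of_comm (hAC y hy c hc).symm)
      (fun y hy => s3b (commutator_mem_commutator hc hy)) (fun y hy => comm_mem_of_comm (hS.com C hC c hc y hy))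

/-- two commuting members not opposite to `D` generate no element of a member opposite to `D` -/
theorem opp_of_mem_sup {A D E E' : Subgroup G} (hD : D ∈ S) (hE : E ∈ S) (hE' : E' ∈ S) (h : IsRankOnePair A D)
    (hc : Com E E') {a : G} (ha : a ∈ A) (ha1 : a ≠ 1) (hx : a ∈ E ⊔ E') :
    IsRankOnePair E D ∨ IsRankOnePair E' D := by
  by_contra hn
  push Not at hn
  have := hS.nil3 hE hD hE' hc (hS.cc hE hD hn.1) (hS.cc hE' hD hn.2)
  refine r1_not_le_nilpotent (r1_cj_self h ha ha1) this (le_sup_right.trans le_sup_left) ?_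
  refine cj_le_of_mem ?_ (le_sup_right.trans le_sup_left)
  exact (sup_le (le_sup_left.trans le_sup_left) le_sup_right : E ⊔ E' ≤ E ⊔ D ⊔ E') hx

end RS

end Cfsg.Agent.Root
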