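import Mathlib
import Cfsg.Agent.Root.A2

/-! Abstract root subgroups: lines and opposite points, natural modules. -/

set_option autoImplicit false

namespace Cfsg.Agent.Root

open Subgroup Cfsg.Agent.LocalEven
open scoped commutatorElement

variable {G : Type*} [Group G]

theorem comm_of_mem_cj {A : Subgroup G} {g z : G} (h : ∀ a ∈ A, z * a = a * z) (hg : z * g = g * z) :
    ∀ x ∈ cj g A, z * x = x * z := by
  intro y hy
  obtain ⟨a, ha, rfl⟩ := mem_cj'.1 hy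
  have c1 : Commute z g := hg
  have c2 : Commute z a := h a ha
  exact ((c1.mul_right c2).mul_right c1.inv_right).eq

theorem mem_sup_of_com {A C : Subgroup G} (h : Com A C) {x : G} : x ∈ A ⊔ C ↔ ∃ a ∈ A, ∃ c ∈ C, a * c = x :=
  mem_sup_iff_of_le_normalizer ((com_iff_le.1 h).trans (centralizer_le_normalizer _))

theorem l_core {A B C : Subgroup G} (hAC : Com A C) {a b c : G} (e : cj b A = cj a B) (hc : c ∈ C)
    (ha : a ∈ A) : ∀ y ∈ B, (a⁻¹ * ⁅b, c⁆ * a * c) * y = y * (a⁻¹ * ⁅b, c⁆ * a * c) := by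
  intro y hy
  have h1 : a * y * a⁻¹ ∈ cj b A := e ▸ conj_mem_cj hy
  have h2 := (hAC.cj b) _ h1 _ (conj_mem_cj hc)
  have h3 : a⁻¹ * ⁅b, c⁆ * a * c = a⁻¹ * (b * c * b⁻¹) * a := by
    rw [mul_assoc _ a c, hAC a ha c hc]; simp only [commutatorElement_def]; group
  rw [h3]
  calc _ = a⁻¹ * ((b * c * b⁻¹) * (a * y * a⁻¹)) * a := by group
    _ = _ := by rw [← h2]; group

namespace RS

variable {S : Set (Subgroup G)} (hS : RS S)
include hS

theorem not_com_comm {A B C : Subgroup G} (hB : B ∈ S) (hC : C ∈ S) (h : IsRankOnePair A B)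
    (hAC : Com A C) (hF : ⁅C, B⁆ ∈ S) : ¬ Com A ⁅C, B⁆ := by
  intro hc
  have hcc := hS.cc_of_mem hC hB hF
  obtain ⟨a, ha, ha1⟩ := r1_exists h
  obtain ⟨b, hb, hb1, e⟩ := r1_cond h ha ha1
  obtain ⟨c, hc', hc1⟩ := hS.exists_ne_one hC
  have hf : ⁅b, c⁆ ∈ ⁅C, B⁆ := by
    rw [← commutatorElement_inv]; exact inv_mem (commutator_mem_commutator hc' hb)
  refine hS.ne_bot _ hF (hcc.eq_bot_of_mem hc' hc1 fun y hy => ?_)
  have h1 := l_core hAC e hc' ha y hy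
  rw [mul_assoc a⁻¹, ← hc a ha _ hf, inv_mul_cancel_left, mul_assoc, ← mul_assoc y, ← hcc.cr _ hf y hy,
    mul_assoc] at h1
  exact mul_left_cancel h1

theorem not_r1_comm {A B C : Subgroup G} (hA : A ∈ S) (hB : B ∈ S) (hC : C ∈ S)
    (hAC : Com A C) (hF : ⁅C, B⁆ ∈ S) (h : IsRankOnePair A B) : ¬ IsRankOnePair A ⁅C, B⁆ := by
  intro h1
  have hcc := hS.cc_of_mem hC hB hF
  obtain ⟨c, hc, hc1⟩ := hS.exists_ne_one hC
  obtain ⟨b, hb, hb1⟩ := hS.exists_ne_one hB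
  have hf : ⁅c⁻¹, b⁆ ∈ ⁅C, B⁆ := commutator_mem_commutator (inv_mem hc) hb
  have hf1 : ⁅c⁻¹, b⁆ ≠ 1 := fun e => hc1 (inv_eq_one.1 (hcc.comm_inj (hS.ne_bot _ hF) h hAC (inv_mem hc) hb hb1
    (commutatorElement_eq_one_iff_mul_comm.1 e)))
  refine hc1 (hS.eq_one_of_mul_mem hF hA (hS.cj_mem C hC B hB b hb) (r1_symm h1)
    (fun x hx => (hcc.cl x hx c hc).symm) (fun x hx => (hAC x hx c hc).symm) hf hf1 ?_)
  have : c * ⁅c⁻¹, b⁆ = b * c * b⁻¹ := by simp only [commutatorElement_def]; group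
  rw [this]; exact conj_mem_cj hc

/-- a line partner of `A` special to the opposite point `B` is a commutator with `A` -/
theorem lemL {A B C : Subgroup G} (hA : A ∈ S) (hB : B ∈ S) (hC : C ∈ S) (h : IsRankOnePair A B)
    (hAC : Com A C) (hF : ⁅C, B⁆ ∈ S) (hcov : ∀ a ∈ A, a ≠ 1 → ∀ c ∈ C, ∃ D ∈ S, a * c ∈ D) :
    ⁅A, ⁅C, B⁆⁆ = C := by
  have hcc := hS.cc_of_mem hC hB hF
  have h1 := hS.not_r1_comm hA hB hC hAC hF h
  have hK := hS.comm_mem hA hF h1 (hS.not_com_comm hB hC h hAC hF)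
  have hc2 := hS.cc hA hF h1
  refine (hS.line_eq_of_le hA hF hK ⟨B, hB, h⟩ hC fun c hc => ?_).symm
  obtain ⟨a, ha, ha1⟩ := r1_exists h
  obtain ⟨b, hb, hb1, e⟩ := r1_cond h ha ha1
  have hf : ⁅b, c⁆ ∈ ⁅C, B⁆ := by
    rw [← commutatorElement_inv]; exact inv_mem (commutator_mem_commutator hc hb)
  set f := ⁅b, c⁆ with hfd
  have hk : ⁅a⁻¹, f⁆ ∈ ⁅A, ⁅C, B⁆⁆ := commutator_mem_commutator (inv_mem ha) hf
  set k := ⁅a⁻¹, f⁆ with hkd
  have e1 : a⁻¹ * f * a * c = f * (k * c) := by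
    rw [← mul_assoc, ← hc2.cr k hk f hf, hkd]; simp only [commutatorElement_def]; group
  have hzB : ∀ y ∈ B, (k * c) * y = y * (k * c) := by
    intro y hy
    have h2 := l_core hAC e hc ha y hy
    rw [← hfd, e1, mul_assoc, ← mul_assoc y, ← hcc.cr _ hf y hy, mul_assoc f y] at h2
    exact mul_left_cancel h2
  have hzA : ∀ y ∈ A, (k * c) * y = y * (k * c) := fun y hy =>
    (Commute.mul_left (hc2.cl k hk y hy) (hAC y hy c hc).symm).eq
  have hzF : ∀ y ∈ ⁅C, B⁆, (k * c) * y = y * (k * c) := fun y hy =>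
    (Commute.mul_left (hc2.cr k hk y hy) (hcc.cl y hy c hc).symm).eq
  obtain ⟨f', hf', e2⟩ := hc2.mem_cj ha ha1 (inv_mem hk)
  obtain ⟨D, hD, hac⟩ := hcov a ha ha1 c hc
  have hr : IsRankOnePair (cj f' A) B := by
    have := r1_cj h f'
    rwa [hcc.cr.cj_eq hf'] at this
  have hz : k * c = 1 := by
    refine hS.eq_one_of_mul_mem (hS.cj_mem A hA _ hF f' hf') hB hD hr (comm_of_mem_cj hzA (hzF f' hf')) hzB
      (conj_mem_cj ha) ?_ ?_
    · intro e3; apply ha1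
      have : a = f'⁻¹ * (f' * a * f'⁻¹) * f' := by group
      rw [this, e3]; simp
    · rw [← e2, ← mul_assoc, hzA a ha]
      have c1 : Commute k c := by
        have := hzF
        have h3 : Com ⁅A, ⁅C, B⁆⁆ C := ((hAC.sup_left hcc.cl).mono (commutator_le_sup _ _) le_rfl)
        exact h3 k hk c hc
      rw [c1.eq]
      simpa [mul_assoc] using hac
  rw [eq_inv_of_mul_eq_one_right hz]
  exact inv_mem hk

theorem cov_elt {A C : Subgroup G} (hA : A ∈ S) (hC : C ∈ S) (hne : A ≠ C) (hni : NI S A)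
    (hcov : Cov S (A ⊔ C)) : ∀ a ∈ A, a ≠ 1 → ∀ c ∈ C, ∃ D ∈ S, D ≤ A ⊔ C ∧ a * c ∈ D := by
  intro a ha ha1 c hc
  refine hcov _ (mul_mem (mem_sup_left ha) (mem_sup_right hc)) fun e => hne ?_
  refine hS.ti hA hC hni ha ?_ ha1
  rw [eq_inv_of_mul_eq_one_left e]; exact inv_mem hc

/-- a line through `A` contains a unique point special to a given point `B` opposite to `A` -/
theorem line_struct {A B C : Subgroup G} (hA : A ∈ S) (hB : B ∈ S) (hC : C ∈ S) (h : IsRankOnePair A B)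
    (hAC : Com A C) (hne : A ≠ C) (hcov : Cov S (A ⊔ C)) :
    ∃ E ∈ S, ⁅E, B⁆ ∈ S ∧ ⁅A, ⁅E, B⁆⁆ = E ∧ A ⊔ C = A ⊔ E := by
  have hni : NI S A := ⟨B, hB, h⟩
  have key : ∀ E ∈ S, E ≤ A ⊔ C → ¬ IsRankOnePair E B → ⁅E, B⁆ ∈ S ∧ ⁅A, ⁅E, B⁆⁆ = E := by
    intro E hE hle h1
    have hAE : Com A E := ((hS.com A hA).sup_right hAC).mono le_rfl hle
    have hneE : A ≠ E := fun e => h1 (e ▸ h)
    have hc' : ∀ a ∈ A, a ≠ 1 → ∀ c ∈ E, ∃ D ∈ S, a * c ∈ D := by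
      intro a ha ha1 c hc
      obtain ⟨D, hD, -, h2⟩ := hcov _ (mul_mem (mem_sup_left ha) (hle hc)) fun e => hneE (by
        refine hS.ti hA hE hni ha ?_ ha1
        rw [eq_inv_of_mul_eq_one_left e]; exact inv_mem hc)
      exact ⟨D, hD, h2⟩
    have hF : ⁅E, B⁆ ∈ S := by
      refine hS.comm_mem hE hB h1 fun h2 => ?_
      obtain ⟨a, ha, ha1⟩ := r1_exists h
      obtain ⟨c, hc, hc1⟩ := hS.exists_ne_one hE
      obtain ⟨D, hD, h3⟩ := hc' a ha ha1 c hc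
      exact hc1 (hS.eq_one_of_mul_mem hA hB hD h (fun x hx => (hAE x hx c hc).symm) (h2 c hc) ha ha1
        (hAE a ha c hc ▸ h3))
    exact ⟨hF, hS.lemL hA hB hE h hAE hF hc'⟩
  by_cases h1 : IsRankOnePair C B
  · obtain ⟨b, hb, hb1⟩ := hS.exists_ne_one hB
    obtain ⟨a, ha, ha1, e1⟩ := r1_cond (r1_symm h) hb hb1
    obtain ⟨c, hc, hc1, e2⟩ := r1_cond (r1_symm h1) hb hb1
    obtain ⟨E, hE, hle, hx⟩ := hS.cov_elt hA hC hne hni hcov a⁻¹ (inv_mem ha) (inv_ne_one.2 ha1) c hc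
    have h2 : ¬ IsRankOnePair E B := by
      intro h2
      have hx1 : a⁻¹ * c ≠ 1 := fun e => hne (hS.ti hA hC hni ha (by rw [inv_mul_eq_one.1 e]; exact hc) ha1)
      apply r1_not_com (r1_cj_self h2 hx hx1)
      have := (hAC.cj b).cj a⁻¹
      rwa [← e1, ← e2, cj_inv_cj, cj_cj] at this
    obtain ⟨hF, hK⟩ := key E hE hle h2
    refine ⟨E, hE, hF, hK, le_antisymm (sup_le le_sup_left ?_) (sup_le le_sup_left hle)⟩
    have hcx : c ∈ A ⊔ ⁅A, ⁅E, B⁆⁆ := by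
      rw [hK]
      have : c = a * (a⁻¹ * c) := by group
      rw [this]; exact mul_mem (mem_sup_left ha) (mem_sup_right hx)
    obtain ⟨f, hf, e3⟩ := hS.line_mem hA hF (hK.symm ▸ hE) hni hC hc hcx (by
      rw [hK]
      intro hcE
      exact h2 (hS.ti hC hE ⟨B, hB, h1⟩ hc hcE hc1 ▸ h1))
    rw [e3]
    have := (hS.cc_of_mem hA hF (hK.symm ▸ hE)).cj_le hf
    rwa [hK] at this
  · obtain ⟨hF, hK⟩ := key C hC le_sup_right h1
    exact ⟨C, hC, hF, hK, rfl⟩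

section Nat

variable {A B C D : Subgroup G} (hA : A ∈ S) (hB : B ∈ S) (hC : C ∈ S) (hD : D ∈ S)
  (e1 : ⁅A, B⁆ = C) (e2 : ⁅C, D⁆ = A)
include hA hB hC hD e1 e2

theorem nat_r1 : IsRankOnePair B D := by
  by_contra h
  have c1 := hS.cc_of_mem hA hB (e1 ▸ hC)
  have c2 := hS.cc_of_mem hC hD (e2 ▸ hA)
  have hAD : Com A D := e2 ▸ c2.cr
  have := hS.nil3 hA hB hD hAD c1 (hS.cc hD hB fun h1 => h (r1_symm h1))
  have hAR : A ≤ A ⊔ B ⊔ D := le_sup_left.trans le_sup_left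
  have hBR : B ≤ A ⊔ B ⊔ D := le_sup_right.trans le_sup_left
  have hCR : C ≤ A ⊔ B ⊔ D := e1 ▸ (commutator_le_sup A B).trans le_sup_left
  have h3 := eq_bot_of_le_comm this (N := A ⊔ C) (sup_le hAR hCR) (sup_le
    (e2 ▸ commutator_mono le_sup_right le_sup_right) (e1 ▸ commutator_mono le_sup_left hBR))
  exact hS.ne_bot A hA (eq_bot_iff.2 (h3 ▸ le_sup_left))

theorem nat_inj {a b : G} (ha : a ∈ A) (hb : b ∈ B) (hb1 : b ≠ 1) (e : a * b = b * a) : a = 1 := by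
  have c1 := hS.cc_of_mem hA hB (e1 ▸ hC)
  have c2 := hS.cc_of_mem hC hD (e2 ▸ hA)
  have hAD : Com A D := e2 ▸ c2.cr
  exact c1.comm_inj (e1 ▸ hS.ne_bot C hC) (r1_symm (hS.nat_r1 hA hB hC hD e1 e2)) hAD.symm ha hb hb1 e

theorem nat_cent {x : G} (hx : x ∈ A ⊔ C) (h : ∀ d ∈ D, x * d = d * x) : x ∈ A := by
  have c1 := hS.cc_of_mem hA hB (e1 ▸ hC)
  have c2 := hS.cc_of_mem hC hD (e2 ▸ hA)
  have hAD : Com A D := e2 ▸ c2.cr
  have hAC : Com A C := e2 ▸ c2.cl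
  obtain ⟨a, ha, c, hc, rfl⟩ := (mem_sup_of_com hAC).1 hx
  by_cases hc1 : c = 1
  · rw [hc1, mul_one]; exact ha
  · exfalso
    refine hS.ne_bot A hA (e2 ▸ c2.eq_bot_of_mem hc hc1 fun d hd => ?_)
    have := h d hd
    rw [← mul_assoc, ← hAD a ha d hd, mul_assoc, mul_assoc] at this
    exact mul_left_cancel this

theorem nat_cj_line {x : G} (hx : x ∈ B ⊔ D) : cj x (A ⊔ C) = A ⊔ C := by
  have c1 := hS.cc_of_mem hA hB (e1 ▸ hC)
  have c2 := hS.cc_of_mem hC hD (e2 ▸ hA)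
  apply cj_eq_of_mem_normalizer
  refine (sup_le (fun b hb => ?_) (fun d hd => ?_) : B ⊔ D ≤ normalizer ((A ⊔ C : Subgroup G) : Set G)) hx
  · have := c1.cj_line hb
    rw [e1] at this; exact cj_eq_self_iff.1 this
  · have := c2.cj_line hd
    rw [e2, sup_comm] at this; exact cj_eq_self_iff.1 this

theorem nat_cj_le {x y : G} (hx : x ∈ B ⊔ D) (hy : y ∈ B ⊔ D) (e : cj x D = cj y B) : cj x A ≤ cj y C := by
  have c2 := hS.cc_of_mem hC hD (e2 ▸ hA)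
  have hAD : Com A D := e2 ▸ c2.cr
  rw [le_cj_iff]
  intro z hz
  refine hS.nat_cent hC hD hA hB e2 e1 ?_ fun b hb => ?_
  · rw [sup_comm, ← hS.nat_cj_line hA hB hC hD e1 e2 (mul_mem (inv_mem hy) hx), cj_mul]
    exact cj_mono _ (cj_mono _ le_sup_left) hz
  · refine ((hAD.cj x).cj y⁻¹) z hz b ?_
    rw [e, cj_inv_cj]; exact hb

theorem nat_cj_eq {x y : G} (hx : x ∈ B ⊔ D) (hy : y ∈ B ⊔ D) (e : cj x D = cj y B) : cj x A = cj y C :=
  le_antisymm (hS.nat_cj_le hA hB hC hD e1 e2 hx hy e)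
    (hS.nat_cj_le hC hD hA hB e2 e1 (by rwa [sup_comm]) (by rwa [sup_comm]) e.symm)

theorem nat_cj_eq' {x y : G} (hx : x ∈ B ⊔ D) (hy : y ∈ B ⊔ D) (e : cj x D = cj y D) : cj x A = cj y A := by
  obtain ⟨z, hz, e3⟩ := right_mem_om (hS.nat_r1 hA hB hC hD e1 e2)
  rw [hS.nat_cj_eq hA hB hC hD e1 e2 hx (mul_mem hy hz) (by rw [e, cj_mul, ← e3]),
    hS.nat_cj_eq hA hB hC hD e1 e2 hy (mul_mem hy hz) (by rw [cj_mul, ← e3])]

theorem nat_orbit {E : Subgroup G} : (∃ x ∈ B ⊔ D, E = cj x A) ↔ (E = C ∨ ∃ b ∈ B, E = cj b A) := by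
  have h := hS.nat_r1 hA hB hC hD e1 e2
  constructor
  · rintro ⟨x, hx, rfl⟩
    rcases (mem_om_iff h).1 (cj_mem_om (right_mem_om h) hx) with e | ⟨b, hb, e⟩
    · left
      have := hS.nat_cj_eq hA hB hC hD e1 e2 hx (one_mem _) (by rw [e, cj_one])
      rwa [cj_one] at this
    · exact Or.inr ⟨b, hb, hS.nat_cj_eq' hA hB hC hD e1 e2 hx (mem_sup_left hb) e⟩
  · rintro (rfl | ⟨b, hb, rfl⟩)
    · obtain ⟨z, hz, e3⟩ := right_mem_om (r1_symm h)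
      rw [sup_comm] at hz
      have := hS.nat_cj_eq hA hB hC hD e1 e2 hz (one_mem _) (by rw [← e3, cj_one])
      exact ⟨z, hz, by rw [this, cj_one]⟩
    · exact ⟨b, mem_sup_left hb, rfl⟩

theorem nat_cj_inj {b b' : G} (hb : b ∈ B) (hb' : b' ∈ B) {x : G} (h1 : x ∈ cj b A) (h2 : x ∈ cj b' A)
    (hx : x ≠ 1) : b = b' := by
  have c1 := hS.cc_of_mem hA hB (e1 ▸ hC)
  obtain ⟨a, ha, rfl⟩ := mem_cj'.1 h1
  have ha1 : a ≠ 1 := by rintro rfl; simp at hx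
  have h3 : ⁅b'⁻¹ * b, a⁆ ∈ A := by
    have := mul_mem (mem_cj.1 h2) (inv_mem ha)
    convert this using 1
    simp only [commutatorElement_def]; group
  have h4 : ⁅b'⁻¹ * b, a⁆ ∈ ⁅A, B⁆ := by
    rw [← commutatorElement_inv]; exact inv_mem (commutator_mem_commutator ha (mul_mem (inv_mem hb') hb))
  have h5 := c1.inf_eq_one (e1 ▸ hS.ne_bot C hC) h3 h4
  by_contra hne
  exact ha1 (hS.nat_inj hA hB hC hD e1 e2 ha (mul_mem (inv_mem hb') hb)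
    (fun e => hne (inv_mul_eq_one.1 e).symm) (commutatorElement_eq_one_iff_mul_comm.1 h5).symm)

theorem nat_sp : Sp B D := by
  have h := hS.nat_r1 hA hB hC hD e1 e2
  have c1 := hS.cc_of_mem hA hB (e1 ▸ hC)
  have c2 := hS.cc_of_mem hC hD (e2 ▸ hA)
  have hAC : Com A C := e2 ▸ c2.cl
  intro b hb d hd e
  have hd1 := r1_ne_one_right h hb e
  have e3 := hS.nat_cj_eq hA hB hC hD e1 e2 (mem_sup_left hb) (mem_sup_right hd) e.symm
  obtain ⟨a, ha, ha1⟩ := hS.exists_ne_one hA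
  have h1 : b * a * b⁻¹ ∈ cj d C := e3 ▸ conj_mem_cj ha
  obtain ⟨c, hc, e4⟩ := mem_cj'.1 h1
  have m1 : ⁅a, b⁆ ∈ C := e1 ▸ commutator_mem_commutator ha hb
  have m2 : ⁅c, d⁆ ∈ A := e2 ▸ commutator_mem_commutator hc hd
  have e5 : ⁅c, d⁆⁻¹ * c = ⁅a, b⁆⁻¹ * a := by
    calc ⁅c, d⁆⁻¹ * c = d * c * d⁻¹ := by simp only [commutatorElement_def]; group
      _ = _ := by rw [e4]; simp only [commutatorElement_def]; group
  have e6 : ⁅a, b⁆ * c = a * ⁅c, d⁆ := by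
    calc ⁅a, b⁆ * c = ⁅a, b⁆ * (⁅c, d⁆ * (⁅c, d⁆⁻¹ * c)) := by rw [mul_inv_cancel_left]
      _ = _ := by
        rw [e5, ← mul_assoc, ← hAC _ m2 _ m1, ← hS.com A hA _ m2 a ha, mul_assoc, mul_inv_cancel_left]
  have e7 : a * ⁅c, d⁆ = 1 :=
    c1.inf_eq_one (e1 ▸ hS.ne_bot C hC) (mul_mem ha m2) (by rw [e1, ← e6]; exact mul_mem m1 hc)
  have e8 : ⁅a, b⁆ * c = 1 := e6.trans e7
  obtain ⟨b', hb', -, e9⟩ := r1_cond (r1_symm h) (inv_mem hd) (inv_ne_one.2 hd1)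
  have e10 := hS.nat_cj_eq hA hB hC hD e1 e2 (mem_sup_left hb') (inv_mem (mem_sup_right hd)) e9
  have x1 : b⁻¹ * a * b = d⁻¹ * c⁻¹ * d := by
    calc b⁻¹ * a * b = ⁅a, b⁻¹⁆⁻¹ * a := by simp only [commutatorElement_def]; group
      _ = c⁻¹ * a := by rw [c1.inv_right ha hb, inv_inv, eq_inv_of_mul_eq_one_left e8]
      _ = a * c⁻¹ := (hAC a ha _ (inv_mem hc)).symm
      _ = ⁅c⁻¹, d⁻¹⁆⁻¹ * c⁻¹ := by
        rw [c2.inv_right (inv_mem hc) hd, c2.inv_left hc hd, inv_inv, eq_inv_of_mul_eq_one_left e7]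
      _ = _ := by simp only [commutatorElement_def]; group
  have : b⁻¹ = b' := by
    refine hS.nat_cj_inj hA hB hC hD e1 e2 (inv_mem hb) hb' (x := b⁻¹ * a * b) ?_ ?_ ?_
    · have := conj_mem_cj (g := b⁻¹) ha; rwa [inv_inv] at this
    · rw [e10, x1]
      have := conj_mem_cj (g := d⁻¹) (inv_mem hc); rwa [inv_inv] at this
    · intro e11; apply ha1
      have : a = b * (b⁻¹ * a * b) * b⁻¹ := by group
      rw [this, e11]; simp
  rw [this, e9]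

end Nat

end RS

end Cfsg.Agent.Root
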