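import Mathlib
import Cfsg.Agent.Root.A3

/-! Abstract root subgroups: components, classes. -/

set_option autoImplicit false

namespace Cfsg.Agent.Root

open Subgroup Cfsg.Agent.LocalEven
open scoped commutatorElement

variable {G : Type*} [Group G]

theorem cov_of_line {S : Set (Subgroup G)} {A B : Subgroup G} (h : B ∈ linePartners S A) : Cov S (A ⊔ B) :=
  fun x hx hx1 => by
    obtain ⟨C, hC, h1⟩ := h.2.2.1 x hx hx1
    exact ⟨C, hC.1, hC.2, h1⟩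

theorem line_symm {S : Set (Subgroup G)} {A B : Subgroup G} (hA : A ∈ S) (h : B ∈ linePartners S A) :
    A ∈ linePartners S B :=
  ⟨⟨hA, h.1.2.1.symm, by rw [commutator_comm]; exact h.1.2.2⟩, by rw [sup_comm]; exact h.2⟩

theorem fadj_symm {S : Set (Subgroup G)} {A B : Subgroup G} (h : FAdj S A B) : FAdj S B A :=
  ⟨h.2.1, h.1, r1_symm h.2.2⟩

theorem reach_symm {α : Type*} {r : α → α → Prop} (hr : ∀ a b, r a b → r b a) {a b : α}
    (h : Relation.ReflTransGen r a b) : Relation.ReflTransGen r b a := by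
  induction h with
  | refl => exact .refl
  | tail _ h2 ih => exact .head (hr _ _ h2) ih

theorem freach_symm {S : Set (Subgroup G)} {A B : Subgroup G} (h : Relation.ReflTransGen (FAdj S) A B) :
    Relation.ReflTransGen (FAdj S) B A := reach_symm (fun _ _ => fadj_symm) h

theorem ni_of_reach {S : Set (Subgroup G)} {A B : Subgroup G} (h : Relation.ReflTransGen (FAdj S) A B)
    (hne : B ≠ A) : NI S A := by
  rcases h.cases_head with e | ⟨C, h1, -⟩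
  · exact absurd e.symm hne
  · exact ⟨C, h1.2.1, h1.2.2⟩

theorem conj_of_reach {S : Set (Subgroup G)} {A B : Subgroup G} (h : Relation.ReflTransGen (FAdj S) A B) :
    ∃ g : G, B = cj g A := by
  induction h with
  | refl => exact ⟨1, (cj_one _).symm⟩
  | tail _ h2 ih =>
    obtain ⟨g, rfl⟩ := ih
    obtain ⟨x, -, e⟩ := right_mem_om h2.2.2
    exact ⟨x * g, by rw [e, cj_cj]⟩

theorem freach_cj {S : Set (Subgroup G)} {g : G} (hg : ∀ A ∈ S, cj g A ∈ S) {A B : Subgroup G}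
    (h : Relation.ReflTransGen (FAdj S) A B) : Relation.ReflTransGen (FAdj S) (cj g A) (cj g B) := by
  induction h with
  | refl => exact .refl
  | tail _ h2 ih => exact ih.tail ⟨hg _ h2.1, hg _ h2.2.1, r1_cj h2.2.2 g⟩

/-- the comparison trick -/
theorem le_trick {A B C : Subgroup G} (le : Subgroup G → Subgroup G → Prop)
    (hcj : ∀ g ∈ A ⊔ B ⊔ C, ∀ U W, le U W → le (cj g U) (cj g W)) (htr : ∀ U V W, le U V → le V W → le U W)
    (hn : ∀ c ∈ C, le B (cj c B) → ¬ IsRankOnePair B (cj c B)) (h1 : IsRankOnePair A B) (h2 : IsRankOnePair C B)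
    (hAC : Com A C) (h : le A C) : le C A := by
  have hA : ∀ {a}, a ∈ A → a ∈ A ⊔ B ⊔ C := fun ha => mem_sup_left (mem_sup_left ha)
  have hB : ∀ {a}, a ∈ B → a ∈ A ⊔ B ⊔ C := fun ha => mem_sup_left (mem_sup_right ha)
  have hC : ∀ {a}, a ∈ C → a ∈ A ⊔ B ⊔ C := fun ha => mem_sup_right ha
  have key : ∀ a ∈ A, a ≠ 1 → ∃ b ∈ B, ∃ c ∈ C, cj b A = cj a B ∧ cj b C = cj c B ∧ le (cj a B) (cj c B) := by
    intro a ha ha1
    obtain ⟨b, hb, hb1, e1⟩ := r1_cond h1 ha ha1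
    obtain ⟨c, hc, -, e2⟩ := r1_cond (r1_symm h2) hb hb1
    exact ⟨b, hb, c, hc, e1, e2.symm, e1 ▸ e2 ▸ hcj b (hB hb) _ _ h⟩
  obtain ⟨a, ha, ha1⟩ := r1_exists h1
  obtain ⟨b, hb, c, hc, e1, e2, l1⟩ := key a ha ha1
  obtain ⟨-, -, c', hc', -, -, l2⟩ := key a⁻¹ (inv_mem ha) (inv_ne_one.2 ha1)
  have l3 := hcj a (hA ha) _ _ l2
  rw [cj_cj_inv, cj_cj, hAC a ha c' hc', cj_mul] at l3
  have l4 := hcj c' (hC hc') _ _ l1
  have l5 := htr _ _ _ l3 l4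
  rw [cj_cj] at l5
  have e3 : c' * c = 1 := by
    by_contra hne
    exact hn _ (mul_mem hc' hc) l5 (r1_cj_self h2 (mul_mem hc' hc) hne)
  have l6 := hcj c (hC hc) _ _ l3
  rw [cj_cj, eq_inv_of_mul_eq_one_left e3, mul_inv_cancel, cj_one, ← e1, ← e2] at l6
  have := hcj b⁻¹ (hB (inv_mem hb)) _ _ l6
  rwa [cj_inv_cj, cj_inv_cj] at this

theorem cm_cj {S : Set (Subgroup G)} {g : G} (hg : ∀ A ∈ S, cj g⁻¹ A ∈ S) (hg' : ∀ A ∈ S, cj g A ∈ S)
    {U W : Subgroup G} (h : ∀ E ∈ S, Com E U → Com E W) : ∀ E ∈ S, Com E (cj g U) → Com E (cj g W) := by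
  intro E hE h1
  have := h _ (hg E hE) (by simpa [cj_inv_cj] using h1.cj g⁻¹)
  simpa [cj_cj_inv] using this.cj g

theorem om_cj {S : Set (Subgroup G)} {g : G} (hg : ∀ A ∈ S, cj g⁻¹ A ∈ S)
    {U W : Subgroup G} (h : ∀ E ∈ S, IsRankOnePair U E → IsRankOnePair W E) :
    ∀ E ∈ S, IsRankOnePair (cj g U) E → IsRankOnePair (cj g W) E := by
  intro E hE h1
  have := h _ (hg E hE) (by simpa [cj_inv_cj] using r1_cj h1 g⁻¹)
  simpa [cj_cj_inv] using r1_cj this g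

namespace RS

variable {S : Set (Subgroup G)} (hS : RS S)
include hS

theorem cj_mem_iSup {T : Set (Subgroup G)} (hT : T ⊆ S) {g : G} (hg : g ∈ ⨆ E ∈ T, E) :
    ∀ A ∈ S, cj g A ∈ S := by
  let K : Subgroup G :=
    { carrier := {g | (∀ A ∈ S, cj g A ∈ S) ∧ ∀ A ∈ S, cj g⁻¹ A ∈ S}
      one_mem' := ⟨fun A hA => by rwa [cj_one], fun A hA => by rwa [inv_one, cj_one]⟩
      mul_mem' := fun {x y} hx hy => ⟨fun A hA => by rw [cj_mul]; exact hx.1 _ (hy.1 A hA),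
        fun A hA => by rw [mul_inv_rev, cj_mul]; exact hy.2 _ (hx.2 A hA)⟩
      inv_mem' := fun {x} hx => ⟨hx.2, by rw [inv_inv]; exact hx.1⟩ }
  have : (⨆ E ∈ T, E) ≤ K := iSup₂_le fun E hE x hx =>
    ⟨fun A hA => hS.cj_mem A hA E (hT hE) x hx, fun A hA => hS.cj_mem A hA E (hT hE) _ (inv_mem hx)⟩
  exact (this hg).1

theorem cj_mem_sup3 {A B C : Subgroup G} (hA : A ∈ S) (hB : B ∈ S) (hC : C ∈ S) {g : G} (hg : g ∈ A ⊔ B ⊔ C) :
    ∀ E ∈ S, cj g E ∈ S := by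
  refine hS.cj_mem_iSup (T := {A, B, C}) ?_ ?_
  · rintro _ (rfl | rfl | rfl) <;> assumption
  · refine (sup_le (sup_le ?_ ?_) ?_ : A ⊔ B ⊔ C ≤ _) hg
    · exact le_iSup₂_of_le A (by simp) le_rfl
    · exact le_iSup₂_of_le B (by simp) le_rfl
    · exact le_iSup₂_of_le C (by simp) le_rfl

theorem line_partner {A B : Subgroup G} (hA : A ∈ S) (hB : B ∈ S) (hC : ⁅A, B⁆ ∈ S) (hni : NI S A) :
    ⁅A, B⁆ ∈ linePartners S A :=
  ⟨⟨hC, (hS.line_ne hA hB hC).symm, com_iff.2 (hS.cc_of_mem hA hB hC).cl.symm⟩, hS.line_partition hA hB hC hni⟩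

theorem reach_of_line {A C : Subgroup G} (hA : A ∈ S) (hC : C ∈ S) (h1 : NI S A) (h2 : NI S C) (hAC : Com A C)
    (hcov : Cov S (A ⊔ C)) : Relation.ReflTransGen (FAdj S) A C := by
  by_cases hne : A = C
  · rw [hne]
  obtain ⟨a, ha, ha1⟩ := hS.exists_ne_one hA
  obtain ⟨c, hc, hc1⟩ := hS.exists_ne_one hC
  obtain ⟨E, hE, hle, hx⟩ := hS.cov_elt hA hC hne h1 hcov a ha ha1 c hc
  obtain ⟨D, hD, hAD⟩ := h1
  obtain ⟨D', hD', hCD⟩ := h2
  have hAE : Com A E := ((hS.com A hA).sup_right hAC).mono le_rfl hle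
  have hCE : Com C E := (hAC.symm.sup_right (hS.com C hC)).mono le_rfl hle
  have m1 : a ∈ C ⊔ E := by
    have : a = (a * c) * c⁻¹ := by group
    rw [this]; exact mul_mem (mem_sup_right hx) (mem_sup_left (inv_mem hc))
  have m2 : c ∈ A ⊔ E := by
    have : c = a⁻¹ * (a * c) := by group
    rw [this]; exact mul_mem (mem_sup_left (inv_mem ha)) (mem_sup_right hx)
  have s1 : Relation.ReflTransGen (FAdj S) A D := .single ⟨hA, hD, hAD⟩
  have s2 : Relation.ReflTransGen (FAdj S) D' C := .single ⟨hD', hC, r1_symm hCD⟩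
  rcases hS.opp_of_mem_sup hD hC hE hAD hCE ha ha1 m1 with h3 | h3
  · exact s1.tail ⟨hD, hC, r1_symm h3⟩
  rcases hS.opp_of_mem_sup hD' hA hE hCD hAE hc hc1 m2 with h4 | h4
  · exact .head ⟨hA, hD', h4⟩ s2
  · exact ((s1.tail ⟨hD, hE, r1_symm h3⟩).tail ⟨hE, hD', h4⟩).trans s2

theorem reach_cj_mem {A C : Subgroup G} (hA : A ∈ S) (hC : C ∈ S) (hni : NI S A) {c : G} (hc : c ∈ C) :
    Relation.ReflTransGen (FAdj S) A (cj c A) := by
  have hc' := hS.cj_mem A hA C hC c hc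
  rcases hS.tri A hA C hC with h | h | ⟨h1, h2⟩
  · rw [h.symm.cj_eq hc]
  · by_cases hc1 : c = 1
    · rw [hc1, cj_one]
    · exact .single ⟨hA, hc', r1_cj_self (r1_symm h) hc hc1⟩
  · by_cases hc1 : c = 1
    · rw [hc1, cj_one]
    · exact hS.reach_of_line hA hc' hni (hS.ni_cj hni hC hc) (h2.com_cj (hS.com A hA) hc)
        (by rw [h2.sup_cj_eq hc hc1]; exact hS.line_cov hA hC h1)

theorem reach_cj {T : Set (Subgroup G)} (hT : T ⊆ S) {g : G} (hg : g ∈ ⨆ E ∈ T, E) {A : Subgroup G} (hA : A ∈ S)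
    (hni : NI S A) : Relation.ReflTransGen (FAdj S) A (cj g A) := by
  let K : Subgroup G :=
    { carrier := {g | g ∈ (⨆ E ∈ T, E) ∧ Relation.ReflTransGen (FAdj S) A (cj g A)}
      one_mem' := ⟨one_mem _, by rw [cj_one]⟩
      mul_mem' := fun {x y} hx hy => ⟨mul_mem hx.1 hy.1, by
        rw [cj_mul]; exact hx.2.trans (freach_cj (hS.cj_mem_iSup hT hx.1) hy.2)⟩
      inv_mem' := fun {x} hx => ⟨inv_mem hx.1, by
        have := freach_cj (hS.cj_mem_iSup hT (inv_mem hx.1)) hx.2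
        rw [cj_inv_cj] at this
        exact freach_symm this⟩ }
  have : (⨆ E ∈ T, E) ≤ K := iSup₂_le fun E hE x hx =>
    ⟨(le_iSup₂_of_le E hE le_rfl : E ≤ ⨆ E ∈ T, E) hx, hS.reach_cj_mem hA (hT hE) hni hx⟩
  exact (this hg).2

/-- `C_Σ(A) ⊆ C_Σ(C)` implies `Ω_C ⊆ Ω_A` -/
theorem r1_of_cm {A B C : Subgroup G} (hA : A ∈ S) (hB : B ∈ S) (hC : C ∈ S)
    (h : ∀ E ∈ S, Com E A → Com E C) (h1 : IsRankOnePair C B) : IsRankOnePair A B := by
  rcases hS.tri A hA B hB with h2 | h2 | ⟨h2, h3⟩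
  · exact absurd (h B hB h2.symm).symm (r1_not_com h1)
  · exact h2
  · exact absurd (h _ h2 h3.cl).symm (hS.not_com_comm hB hA h1 (h A hA (hS.com A hA)).symm h2)

theorem cm_symm {A C : Subgroup G} (hA : A ∈ S) (hC : C ∈ S) (hni : NI S C)
    (h : ∀ E ∈ S, Com E A → Com E C) : ∀ E ∈ S, Com E C → Com E A := by
  obtain ⟨B, hB, h2⟩ := hni
  have h1 := hS.r1_of_cm hA hB hC h h2
  refine le_trick (A := A) (B := B) (C := C) (fun U W => ∀ E ∈ S, Com E U → Com E W) ?_ ?_ ?_ h1 h2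
    (h A hA (hS.com A hA)) h
  · intro g hg U W hUW
    exact cm_cj (hS.cj_mem_sup3 hA hB hC (inv_mem hg)) (hS.cj_mem_sup3 hA hB hC hg) hUW
  · intro U V W h1 h2 E hE h3; exact h2 E hE (h1 E hE h3)
  · intro c hc h3 h4; exact r1_not_com h4 (h3 B hB (hS.com B hB))

theorem exists_nonopp {A C D : Subgroup G} (hA : A ∈ S) (hC : C ∈ S) (hD : D ∈ S) (hE : ⁅A, C⁆ ∈ S) (hni : NI S A)
    (h : IsRankOnePair ⁅A, C⁆ D) : ∃ c0 ∈ C, ¬ IsRankOnePair (cj c0 A) D ∧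
      ∀ c ∈ C, c ≠ c0 → IsRankOnePair (cj c A) D := by
  have hcc := hS.cc_of_mem hA hC hE
  obtain ⟨P, hP, hPD, hK, e⟩ := hS.line_struct hE hD hA h hcc.cl (hS.line_ne hA hC hE).symm
    (by rw [sup_comm]; exact hS.line_cov hA hC hE)
  have hn := hS.not_r1_of_comm_mem hP hD hPD
  rcases hS.line_members hA hC hE hni hP (by rw [sup_comm, e]; exact le_sup_right) with e1 | ⟨c0, hc0, rfl⟩
  · exact absurd (e1 ▸ h) hn
  refine ⟨c0, hc0, hn, fun c hc hne => ?_⟩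
  obtain ⟨x, hx, hx1⟩ := hS.exists_ne_one hE
  have h1 : c0⁻¹ * c ≠ 1 := fun e => hne (inv_mul_eq_one.1 e).symm
  have h2 := cj_mono c0 (hcc.le_sup_cj (mul_mem (inv_mem hc0) hc) h1)
  rw [hcc.cr.symm.cj_eq hc0, cj_sup, cj_cj, mul_inv_cancel_left] at h2
  refine (hS.opp_of_mem_sup hD hP (hS.cj_mem A hA C hC c hc) h ?_ hx hx1 (h2 hx)).resolve_left hn
  have := (hcc.com_cj (hS.com A hA) (mul_mem (inv_mem hc0) hc)).cj c0
  rwa [cj_cj, mul_inv_cancel_left] at this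

theorem com_of_om {A C : Subgroup G} (hA : A ∈ S) (hC : C ∈ S) (hni : ∀ E ∈ S, NI S E)
    (h : ∀ E ∈ S, IsRankOnePair A E → IsRankOnePair C E) : Com A C := by
  rcases hS.tri A hA C hC with h2 | h2 | ⟨hE, hcc⟩
  · exact h2
  · exact absurd rfl (h C hC h2).ne
  exfalso
  obtain ⟨D, hD, h1⟩ := hni _ hE
  have hE' : ⁅C, A⁆ ∈ S := by rwa [commutator_comm]
  obtain ⟨c0, hc0, -, h3⟩ := hS.exists_nonopp hA hC hD hE (hni A hA) h1
  obtain ⟨a0, ha0, h4, -⟩ := hS.exists_nonopp hC hA hD hE' (hni C hC) (by rwa [commutator_comm])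
  obtain ⟨c, hc, hne⟩ : ∃ c ∈ C, c ≠ c0 := by
    obtain ⟨c, hc, hc1⟩ := hS.exists_ne_one hC
    by_cases h5 : c = c0
    · exact ⟨1, one_mem _, fun e => hc1 (h5.trans e.symm)⟩
    · exact ⟨c, hc, h5⟩
  have hg : c * a0 ∈ A ⊔ D ⊔ C := mul_mem (mem_sup_right hc) (mem_sup_left (mem_sup_left ha0))
  have h5 := h _ (hS.cj_mem_sup3 hA hD hC (inv_mem hg) D hD) (by
    rw [← r1_cj_iff (g := c * a0), cj_cj_inv, cj_mul, cj_eq_of_mem ha0]; exact h3 c hc hne)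
  rw [← r1_cj_iff (g := c * a0), cj_cj_inv, cj_mul,
    (hcc.symm.com_cj (hS.com C hC) ha0).cj_eq hc] at h5
  exact h4 h5

theorem om_symm' {A C : Subgroup G} (hA : A ∈ S) (hC : C ∈ S) (hni : NI S A) (hAC : Com A C)
    (h : ∀ E ∈ S, IsRankOnePair A E → IsRankOnePair C E) : ∀ E ∈ S, IsRankOnePair C E → IsRankOnePair A E := by
  obtain ⟨B, hB, h1⟩ := hni
  refine le_trick (A := A) (B := B) (C := C) (fun U W => ∀ E ∈ S, IsRankOnePair U E → IsRankOnePair W E)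
    ?_ ?_ ?_ h1 (h B hB h1) hAC h
  · intro g hg U W hUW
    exact om_cj (hS.cj_mem_sup3 hA hB hC (inv_mem hg)) hUW
  · intro U V W h1 h2 E hE h3; exact h2 E hE (h1 E hE h3)
  · intro c hc h3 h4; exact (h3 _ (hS.cj_mem B hB C hC c hc) h4).ne rfl

/-- structure of a line when no member is isolated -/
theorem line_nat {A B D : Subgroup G} (hA : A ∈ S) (hB : B ∈ S) (hD : D ∈ S) (hni : ∀ E ∈ S, NI S E)
    (hAB : Com A B) (hne : A ≠ B) (hcov : Cov S (A ⊔ B)) (h : IsRankOnePair A D) :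
    ∃ P ∈ S, ∃ F ∈ S, ∃ F' ∈ S, ⁅P, D⁆ = F ∧ ⁅A, F⁆ = P ∧ ⁅P, F'⁆ = A ∧ A ⊔ B = A ⊔ P := by
  obtain ⟨P, hP, hF, hK, e⟩ := hS.line_struct hA hD hB h hAB hne hcov
  have hP' : ⁅A, ⁅P, D⁆⁆ ∈ S := hK.symm ▸ hP
  have hcc := hS.cc_of_mem hA hF hP'
  obtain ⟨D', hD', h1⟩ := hni P hP
  have hPA : Com P A := hK ▸ hcc.cl
  have hne' : A ≠ P := hK ▸ hS.line_ne hA hF hP'
  obtain ⟨P1, hP1, hF1, hK1, e1⟩ := hS.line_struct hP hD' hA h1 hPA hne'.symm (by rw [sup_comm, ← e]; exact hcov)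
  rcases hS.line_members hA hF hP' (hni A hA) hP1 (by rw [hK, sup_comm, e1]; exact le_sup_right) with e2 | ⟨f, hf, e2⟩
  · rw [hK] at e2
    exact absurd (e2 ▸ h1) (hS.not_r1_of_comm_mem hP1 hD' hF1)
  refine ⟨P, hP, _, hF, cj f⁻¹ ⁅P1, D'⁆, hS.cj_mem _ hF1 _ hF _ (inv_mem hf), rfl, hK, ?_, e⟩
  have e3 : cj f⁻¹ P = P := by
    have := hcc.cr.symm.cj_eq (inv_mem hf)
    rwa [hK] at this
  rw [← e3, ← cj_commutator, hK1, e2, cj_inv_cj]

end RS

section Class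

variable {S : Set (Subgroup G)}

theorem ni_cj_all (hS : IsRootSubgroupSet S) {A : Subgroup G} (h : NI S A) (g : G) : NI S (cj g A) := by
  obtain ⟨B, hB, h⟩ := h
  exact ⟨cj g B, hS.conj_mem B hB g, r1_cj h g⟩

theorem class_ni (hS : IsRootSubgroupClass S) {A : Subgroup G} (hA : A ∈ S) (h : NI S A) : ∀ E ∈ S, NI S E := by
  intro E hE
  obtain ⟨g, rfl⟩ := hS.2.2 A hA E hE
  exact ni_cj_all hS.1 h g

theorem class_connected (hS : IsRootSubgroupClass S) {A : Subgroup G} (hA : A ∈ S) (h : NI S A) :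
    IsConnectedFamily (FAdj S) S := by
  intro B hB C hC
  obtain ⟨g, rfl⟩ := hS.2.2 B hB C hC
  exact (rs_of hS.1).reach_cj subset_rfl (hS.1.generates ▸ mem_top g) hB (class_ni hS hA h B hB)

theorem class_comm (hS : IsRootSubgroupClass S) (h : ∃ A ∈ S, ∃ B ∈ S, ⁅A, B⁆ ∈ S) {A : Subgroup G} (hA : A ∈ S) :
    ∃ C ∈ S, ∃ D ∈ S, ⁅C, D⁆ = A := by
  obtain ⟨C, hC, D, hD, h⟩ := h
  obtain ⟨g, rfl⟩ := hS.2.2 _ h A hA
  exact ⟨_, hS.1.conj_mem C hC g, _, hS.1.conj_mem D hD g, (cj_commutator g C D).symm⟩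

theorem class_line (hS : IsRootSubgroupClass S) (h : ∃ A ∈ S, ∃ B ∈ S, ⁅A, B⁆ ∈ S) {A B : Subgroup G} (hA : A ∈ S)
    (hB : B ∈ S) (h1 : IsRankOnePair A B) :
    ∃ P ∈ S, ∃ F ∈ S, ∃ F' ∈ S, ⁅P, B⁆ = F ∧ ⁅A, F⁆ = P ∧ ⁅P, F'⁆ = A := by
  have hR := rs_of hS.1
  obtain ⟨C, hC, D, hD, e⟩ := class_comm hS h hA
  have hA' : ⁅C, D⁆ ∈ S := e ▸ hA
  obtain ⟨P, hP, F, hF, F', hF', e1, e2, e3, -⟩ := hR.line_nat hA hC hB (class_ni hS hA ⟨B, hB, h1⟩)
    (e ▸ (hR.cc_of_mem hC hD hA').cl) (e ▸ (hR.line_ne hC hD hA').symm)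
    (by rw [sup_comm, ← e]; exact hR.line_cov hC hD hA') h1
  exact ⟨P, hP, F, hF, F', hF', e1, e2, e3⟩

theorem class_sp (hS : IsRootSubgroupClass S) (h : ∃ A ∈ S, ∃ B ∈ S, ⁅A, B⁆ ∈ S) {A B : Subgroup G} (hA : A ∈ S)
    (hB : B ∈ S) (h1 : IsRankOnePair A B) : Sp A B := by
  obtain ⟨P, hP, F, hF, -, -, e1, e2, -⟩ := class_line hS h hA hB h1
  exact ((rs_of hS.1).nat_sp hP hB hF hA e1 (by rw [commutator_comm]; exact e2)).symm

theorem nd_comm (hnd : IsNondegenerateRootSet S) : ∃ A ∈ S, ∃ B ∈ S, ⁅A, B⁆ ∈ S := by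
  obtain ⟨A, hA, B, hB, h⟩ := hnd.2.2
  exact ⟨A, hA, B, hB, h.1⟩

theorem nd_ni (hS : IsRootSubgroupClass S) (hnd : IsNondegenerateRootSet S) : ∀ E ∈ S, NI S E := by
  obtain ⟨A, hA, B, hB, h⟩ := hnd.2.1
  exact class_ni hS hA ⟨B, hB, h⟩

theorem deg_tri (hS : IsRootSubgroupSet S) (hd : IsDegenerateRootSet S) {A B : Subgroup G} (hA : A ∈ S)
    (hB : B ∈ S) : Com A B ∨ IsRankOnePair A B := by
  rcases hS.pair A hA B hB with h | h | h
  · exact Or.inl (com_iff.1 h)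
  · exact Or.inr h
  · exact absurd h (hd A hA B hB)

theorem ereach_of_class (hS : IsRootSubgroupClass S) (hnd : IsNondegenerateRootSet S) :
    IsConnectedFamily (EAdj S S) S := by
  have hR := rs_of hS.1
  have hni := nd_ni hS hnd
  obtain ⟨A0, hA0⟩ := hS.2.1
  intro A hA B hB
  have := class_connected hS hA (hni A hA) A hA B hB
  clear hB
  induction this with
  | refl => exact .refl
  | @tail U W _ h2 ih =>
    obtain ⟨hU, hW, h⟩ := h2
    obtain ⟨P, hP, F, hF, -, -, e1, e2, -⟩ := class_line hS (nd_comm hnd) hU hW h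
    have l1 : P ∈ linePartners S U := e2 ▸ hR.line_partner hU hF (e2 ▸ hP) (hni U hU)
    have l2 : F ∈ linePartners S P := e1 ▸ hR.line_partner hP hW (e1 ▸ hF) (hni P hP)
    have e3 : ⁅W, P⁆ = F := by rw [commutator_comm]; exact e1
    have l3 : F ∈ linePartners S W := e3 ▸ hR.line_partner hW hP (e3 ▸ hF) (hni W hW)
    exact ((ih.tail ⟨hU, hP, l1⟩).tail ⟨hP, hF, l2⟩).tail ⟨hF, hW, line_symm hW l3⟩

theorem line_cj (hS : IsRootSubgroupSet S) {A B : Subgroup G} (h : B ∈ linePartners S A) (g : G) :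
    cj g B ∈ linePartners S (cj g A) := by
  obtain ⟨⟨hB, hne, hc⟩, -, h2, h3⟩ := h
  refine ⟨⟨hS.conj_mem B hB g, fun e => hne (cj_inj.1 e), by rw [← cj_commutator, hc, cj_bot]⟩,
    fun C hC => hC.2, fun x hx hx1 => ?_, fun C hC D hD hne => ?_⟩
  · rw [← cj_sup] at hx
    obtain ⟨y, hy, rfl⟩ := mem_cj'.1 hx
    obtain ⟨C, hC, h4⟩ := h2 y hy (by rintro rfl; simp at hx1)
    exact ⟨cj g C, ⟨hS.conj_mem C hC.1 g, by rw [← cj_sup]; exact cj_mono g hC.2⟩, conj_mem_cj h4⟩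
  · have := h3 (cj g⁻¹ C) ⟨hS.conj_mem C hC.1 _, by rw [← le_cj_iff, cj_sup]; exact hC.2⟩
      (cj g⁻¹ D) ⟨hS.conj_mem D hD.1 _, by rw [← le_cj_iff, cj_sup]; exact hD.2⟩ (fun e => hne (cj_inj.1 e))
    rwa [← cj_inf, cj_eq_bot] at this

theorem class_gen (hS : IsRootSubgroupClass S) (hnd : IsNondegenerateRootSet S) {A B : Subgroup G} (hA : A ∈ S)
    (hB : B ∈ S) (h : IsRankOnePair A B) {U : Subgroup G} (h1 : ∀ C ∈ linePartners S A, C ≤ U) (h2 : B ≤ U) :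
    U = ⊤ := by
  have hR := rs_of hS.1
  have hni := nd_ni hS hnd
  have hAU : A ≤ U := by
    obtain ⟨C, hC, D, hD, e⟩ := class_comm hS (nd_comm hnd) hA
    have l1 := line_symm hC (hR.line_partner hC hD (e ▸ hA) (hni C hC))
    have e' : ⁅D, C⁆ = A := by rw [commutator_comm]; exact e
    have l2 := line_symm hD (hR.line_partner hD hC (e' ▸ hA) (hni D hD))
    rw [e] at l1; rw [e'] at l2
    rw [← e]; exact (commutator_le_sup C D).trans (sup_le (h1 C l1) (h1 D l2))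
  have step : ∀ C ∈ linePartners S A, ∃ u ∈ U, C = cj u A := by
    intro C hC
    obtain ⟨P, hP, F, hF, F', hF', e1, e2, e3, e4⟩ := hR.line_nat hA hC.1.1 hB hni (com_iff.1 hC.1.2.2)
      hC.1.2.1.symm (cov_of_line hC) h
    have l1 : P ∈ linePartners S A := e2 ▸ hR.line_partner hA hF (e2 ▸ hP) (hni A hA)
    have e3' : ⁅F', P⁆ = A := by rw [commutator_comm]; exact e3
    have l2 : F' ∈ linePartners S A := by
      have := line_symm hF' (hR.line_partner hF' hP (e3' ▸ hA) (hni F' hF'))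
      rwa [e3'] at this
    have hFU : F ≤ U := e1 ▸ (commutator_le_sup P B).trans (sup_le (h1 P l1) h2)
    have := hR.line_members hA hF (e2 ▸ hP) (hni A hA) hC.1.1 (by rw [e2, ← e4]; exact le_sup_right)
    rw [e2] at this
    obtain ⟨x, hx, e5⟩ := (hR.nat_orbit hA hF hP hF' e2 e3).2 this
    exact ⟨x, sup_le hFU (h1 F' l2) hx, e5⟩
  have all : ∀ E ∈ S, ∃ u ∈ U, E = cj u A := by
    intro E hE
    have := ereach_of_class hS hnd A hA E hE
    clear hE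
    induction this with
    | refl => exact ⟨1, one_mem _, (cj_one _).symm⟩
    | @tail V W _ h3 ih =>
      obtain ⟨u, hu, rfl⟩ := ih
      have := line_cj hS.1 h3.2.2 u⁻¹
      rw [cj_inv_cj] at this
      obtain ⟨v, hv, e⟩ := step _ this
      exact ⟨u * v, mul_mem hu hv, by rw [cj_mul, ← e, cj_cj_inv]⟩
  rw [eq_top_iff, ← hS.1.generates]
  refine iSup₂_le fun E hE => ?_
  obtain ⟨u, hu, rfl⟩ := all E hE
  exact cj_le_of_mem hu hAU

end Class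

end Cfsg.Agent.Root
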