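import Mathlib
import Cfsg.Agent.Root.A4

/-! Images of rank one pairs and of sets of abstract root subgroups. -/

set_option autoImplicit false

namespace Cfsg.Agent.Root

open Subgroup Cfsg.Agent.LocalEven
open scoped commutatorElement

variable {G H : Type*} [Group G] [Group H]

theorem map_cj (f : G →* H) (g : G) (A : Subgroup G) : (cj g A).map f = cj (f g) (A.map f) := by
  ext x
  constructor
  · rintro ⟨_, hy, rfl⟩
    obtain ⟨a, ha, rfl⟩ := mem_cj'.1 hy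
    rw [map_mul, map_mul, map_inv]
    exact conj_mem_cj ⟨a, ha, rfl⟩
  · intro hx
    obtain ⟨_, ⟨a, ha, rfl⟩, rfl⟩ := mem_cj'.1 hx
    exact ⟨_, conj_mem_cj ha, by rw [map_mul, map_mul, map_inv]⟩

theorem isNilpotent_map (f : G →* H) {A : Subgroup G} (h : Group.IsNilpotent A) : Group.IsNilpotent (A.map f) := by
  rw [isNilpotent_iff_lowerCentralSeries] at h ⊢
  obtain ⟨n, hn⟩ := h
  exact ⟨n, by rw [← map_lowerCentralSeries, hn, Subgroup.map_bot]⟩

theorem r1_map {A B : Subgroup G} (h : IsRankOnePair A B) (f : G →* H) (hne : A.map f ≠ B.map f) :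
    IsRankOnePair (A.map f) (B.map f) := by
  have key : ∀ {A B : Subgroup G}, IsRankOnePair A B → A.map f ≠ B.map f → ∀ a ∈ A.map f, a ≠ 1 →
      ∃ b ∈ B.map f, b ≠ 1 ∧ cj b (A.map f) = cj a (B.map f) := by
    rintro A B h hne _ ⟨a, ha, rfl⟩ ha1
    obtain ⟨b, hb, -, e⟩ := r1_cond h ha (by rintro rfl; exact ha1 (map_one f))
    have e' : cj (f b) (A.map f) = cj (f a) (B.map f) := by rw [← map_cj, ← map_cj, e]
    refine ⟨f b, ⟨b, hb, rfl⟩, fun e1 => hne ?_, e'⟩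
    rw [e1, cj_one, eq_comm, cj_eq_iff, cj_eq_of_mem (inv_mem (mem_map_of_mem f ha))] at e'
    exact e'.symm
  exact r1_mk hne (isNilpotent_map f h.nilpotent_left) (isNilpotent_map f h.nilpotent_right) (key h hne)
    (key (r1_symm h) hne.symm)

theorem Com.map {A B : Subgroup G} (h : Com A B) (f : G →* H) : Com (A.map f) (B.map f) := by
  rintro _ ⟨a, ha, rfl⟩ _ ⟨b, hb, rfl⟩
  rw [← map_mul, ← map_mul, h a ha b hb]

theorem CC.map {A B : Subgroup G} (h : CC A B) (f : G →* H) : CC (A.map f) (B.map f) := by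
  refine ⟨?_, ?_, ?_, ?_⟩
  · rw [← map_commutator]; exact h.cl.map f
  · rw [← map_commutator]; exact h.cr.map f
  · rw [← map_commutator]
    rintro _ ⟨a, ha, rfl⟩ ha1 _ ⟨c, hc, rfl⟩
    obtain ⟨b, hb, rfl⟩ := h.sl a ha (by rintro rfl; exact ha1 (map_one f)) c hc
    exact ⟨f b, ⟨b, hb, rfl⟩, map_commutatorElement f a b⟩
  · rw [← map_commutator]
    rintro _ ⟨a, ha, rfl⟩ ha1 _ ⟨c, hc, rfl⟩
    obtain ⟨b, hb, rfl⟩ := h.sr a ha (by rintro rfl; exact ha1 (map_one f)) c hc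
    exact ⟨f b, ⟨b, hb, rfl⟩, map_commutatorElement f b a⟩

theorem sp_map {A B : Subgroup G} (h : IsRankOnePair A B) (hs : Sp A B) (f : G →* H) (hne : A.map f ≠ B.map f) :
    Sp (A.map f) (B.map f) := by
  have h' := r1_map h f hne
  rintro _ ⟨a, ha, rfl⟩ β hβ e
  have ha1 := r1_ne_one_left h' hβ e
  obtain ⟨b, hb, -, e1⟩ := r1_cond h ha (by rintro rfl; exact ha1 (map_one f))
  have e' : cj (f b) (A.map f) = cj (f a) (B.map f) := by rw [← map_cj, ← map_cj, e1]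
  rw [r1_inj (r1_symm h') hβ ⟨b, hb, rfl⟩ (e.trans e'.symm), ← map_inv, ← map_inv, ← map_cj, ← map_cj,
    hs a ha b hb e1]

theorem com_of_map_inj {f : G →* H} (hf : Function.Injective f) {A B : Subgroup G} (h : Com (A.map f) (B.map f)) :
    Com A B := fun a ha b hb => hf (by rw [map_mul, map_mul]; exact h _ ⟨a, ha, rfl⟩ _ ⟨b, hb, rfl⟩)

theorem r1_of_map_inj {f : G →* H} (hf : Function.Injective f) {A B : Subgroup G}
    (h : IsRankOnePair (A.map f) (B.map f)) : IsRankOnePair A B := by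
  have key : ∀ {A B : Subgroup G}, IsRankOnePair (A.map f) (B.map f) → ∀ a ∈ A, a ≠ 1 →
      ∃ b ∈ B, b ≠ 1 ∧ cj b A = cj a B := by
    intro A B h a ha ha1
    obtain ⟨_, ⟨b, hb, rfl⟩, hb1, e⟩ := r1_cond h ⟨a, ha, rfl⟩ (fun e => ha1 (hf (e.trans (map_one f).symm)))
    refine ⟨b, hb, by rintro rfl; exact hb1 (map_one f), map_injective hf ?_⟩
    rw [map_cj, map_cj, e]
  exact r1_mk (fun e => h.ne (by rw [e]))
    (@Group.nilpotent_of_mulEquiv _ _ _ _ h.nilpotent_left (A.equivMapOfInjective f hf).symm)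
    (@Group.nilpotent_of_mulEquiv _ _ _ _ h.nilpotent_right (B.equivMapOfInjective f hf).symm)
    (key h) (key (r1_symm h))

theorem r1_map_iff {f : G →* H} (hf : Function.Injective f) {A B : Subgroup G} :
    IsRankOnePair (A.map f) (B.map f) ↔ IsRankOnePair A B :=
  ⟨r1_of_map_inj hf, fun h => r1_map h f fun e => h.ne (map_injective hf e)⟩

theorem cc_of_map_inj {f : G →* H} (hf : Function.Injective f) {A B : Subgroup G}
    (h : CC (A.map f) (B.map f)) : CC A B := by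
  refine ⟨com_of_map_inj hf (by rw [map_commutator]; exact h.cl),
    com_of_map_inj hf (by rw [map_commutator]; exact h.cr), fun a ha ha1 c hc => ?_, fun a ha ha1 c hc => ?_⟩
  · obtain ⟨_, ⟨b, hb, rfl⟩, e⟩ := h.sl _ ⟨a, ha, rfl⟩ (fun e => ha1 (hf (e.trans (map_one f).symm))) (f c)
      (by rw [← map_commutator]; exact ⟨c, hc, rfl⟩)
    exact ⟨b, hb, hf (by rw [e, map_commutatorElement])⟩
  · obtain ⟨_, ⟨b, hb, rfl⟩, e⟩ := h.sr _ ⟨a, ha, rfl⟩ (fun e => ha1 (hf (e.trans (map_one f).symm))) (f c)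
      (by rw [← map_commutator]; exact ⟨c, hc, rfl⟩)
    exact ⟨b, hb, hf (by rw [e, map_commutatorElement])⟩

theorem isRootSubgroupSet_mk {S : Set (Subgroup G)} (h1 : ∀ A ∈ S, Com A A) (h2 : ∀ A ∈ S, A ≠ ⊥)
    (h3 : (⨆ A ∈ S, A) = ⊤) (h4 : ∀ A ∈ S, ∀ g, cj g A ∈ S)
    (h5 : ∀ A ∈ S, ∀ B ∈ S, Com A B ∨ IsRankOnePair A B ∨ (⁅A, B⁆ ∈ S ∧ CC A B)) : IsRootSubgroupSet S :=
  ⟨fun A hA => isMulCommutative_of_com (h1 A hA), h2, h3, h4, fun A hA B hB =>
    (h5 A hA B hB).imp com_iff.2 (Or.imp_right fun h => rcc_of_cc h.2 h.1)⟩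

theorem isRootSubgroupSet_map {S : Set (Subgroup G)} (hS : IsRootSubgroupSet S) (f : G →* H)
    (hf : Function.Surjective f) (hne : ∀ A ∈ S, A.map f ≠ ⊥) :
    IsRootSubgroupSet ((fun A : Subgroup G => A.map f) '' S) := by
  have hR := rs_of hS
  refine isRootSubgroupSet_mk ?_ ?_ ?_ ?_ ?_
  · rintro _ ⟨A, hA, rfl⟩; exact (hR.com A hA).map f
  · rintro _ ⟨A, hA, rfl⟩; exact hne A hA
  · rw [iSup_image, eq_top_iff, ← map_top_of_surjective f hf, ← hS.generates]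
    simp only [Subgroup.map_iSup]; exact le_rfl
  · rintro _ ⟨A, hA, rfl⟩ g
    obtain ⟨g, rfl⟩ := hf g
    exact ⟨cj g A, hS.conj_mem A hA g, map_cj f g A⟩
  · rintro _ ⟨A, hA, rfl⟩ _ ⟨B, hB, rfl⟩
    rcases hR.tri A hA B hB with h | h | ⟨h1, h2⟩
    · exact Or.inl (h.map f)
    · by_cases e : A.map f = B.map f
      · left
        show Com (A.map f) (B.map f)
        rw [← e]; exact (hR.com A hA).map f
      · exact Or.inr (Or.inl (r1_map h f e))
    · exact Or.inr (Or.inr ⟨⟨_, h1, map_commutator A B f⟩, h2.map f⟩)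

theorem freach_map {S : Set (Subgroup G)} (f : G →* H) {A B : Subgroup G}
    (h : Relation.ReflTransGen (FAdj S) A B) :
    Relation.ReflTransGen (FAdj ((fun A : Subgroup G => A.map f) '' S)) (A.map f) (B.map f) := by
  induction h with
  | refl => exact .refl
  | @tail U W _ h2 ih =>
    by_cases e : U.map f = W.map f
    · rw [← e]; exact ih
    · exact ih.tail ⟨⟨U, h2.1, rfl⟩, ⟨W, h2.2.1, rfl⟩, r1_map h2.2.2 f e⟩

/-- the quasi-simplicity criterion: normal subgroups -/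
theorem normal_top_or_center {S : Set (Subgroup G)} (hS : IsRootSubgroupClass S) (hni : ∀ A ∈ S, NI S A)
    (h2 : ∀ A ∈ S, ∀ C ∈ S, (∀ E ∈ S, Com E A ↔ Com E C) → A = C)
    (h3 : (∃ A ∈ S, ∃ B ∈ S, ⁅A, B⁆ ∈ S) ∨ ∀ A ∈ S, ∀ B ∈ S, IsRankOnePair A B → ⁅A ⊔ B, A ⊔ B⁆ = A ⊔ B)
    (N : Subgroup G) [hN : N.Normal] : N = ⊤ ∨ N ≤ center G := by
  have hR := rs_of hS.1
  have top_of : ∀ A ∈ S, A ≤ N → N = ⊤ := by
    intro A hA hle
    rw [eq_top_iff, ← hS.1.generates]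
    refine iSup₂_le fun E hE => ?_
    obtain ⟨g, rfl⟩ := hS.2.2 A hA E hE
    exact cj_le_of_mem_normalizer (le_normalizer_of_normal (K := ⊤) trivial) hle
  by_cases hfix : ∀ A ∈ S, ∀ n ∈ N, cj n A = A
  · right
    have : (⨆ A ∈ S, A) ≤ centralizer (N : Set G) := by
      refine iSup₂_le fun A hA a ha => mem_centralizer_iff.2 fun n hn => ?_
      obtain ⟨B, hB, h⟩ := hni A hA
      refine commutatorElement_eq_one_iff_mul_comm.1 (r1_eq_one h ?_ (hfix B hB _ ?_))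
      · refine mul_mem ?_ (inv_mem ha)
        rw [← hfix A hA n hn]; exact conj_mem_cj ha
      · have : ⁅n, a⁆ = n * (a * n⁻¹ * a⁻¹) := by simp only [commutatorElement_def]; group
        rw [this]; exact mul_mem hn (hN.conj_mem _ (inv_mem hn) a)
    rw [hS.1.generates] at this
    intro n hn
    exact mem_center_iff.2 fun g => (mem_centralizer_iff.1 (this (mem_top g)) n hn).symm
  left
  push Not at hfix
  obtain ⟨A, hA, n, hn, hne⟩ := hfix
  have hC := hS.1.conj_mem A hA n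
  set C := cj n A with hCd
  obtain ⟨D, hD, h4, h5⟩ : ∃ D ∈ S, Com D A ∧ ¬ Com D C := by
    by_contra hc
    push Not at hc
    exact hne (h2 C hC A hA fun E hE => ⟨hR.cm_symm hA hC (hni C hC) hc E hE, hc E hE⟩)
  let π := QuotientGroup.mk' N
  have hker : ∀ {U W : Subgroup G}, Com (U.map π) (W.map π) → ⁅U, W⁆ ≤ N := by
    intro U W h
    rw [← com_iff, ← map_commutator, Subgroup.map_eq_bot_iff, QuotientGroup.ker_mk'] at h
    exact h
  have e1 : C.map π = A.map π := by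
    rw [hCd, map_cj, show π n = 1 from (QuotientGroup.eq_one_iff n).2 hn, cj_one]
  have c1 : Com (C.map π) (D.map π) := e1 ▸ (h4.map π).symm
  rcases hR.tri C hC D hD with h | h | ⟨h, -⟩
  · exact absurd h.symm h5
  · rcases h3 with h3 | h3
    · obtain ⟨P, hP, F, hF, -, -, e2, e3, -⟩ := class_line hS h3 hC hD h
      have e4 : C.map π = D.map π := by
        by_contra e
        exact r1_not_com (r1_map h π e) c1
      refine top_of F hF (e2 ▸ hker ?_)
      rw [← e4]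
      have := (hR.cc_of_mem hC hF (e3 ▸ hP)).cl
      rw [e3] at this
      exact this.map π
    · refine top_of C hC (le_sup_left.trans ((h3 C hC D hD h).symm.le.trans (hker ?_)))
      rw [Subgroup.map_sup]
      exact (((hR.com C hC).map π).sup_right c1).sup_left (c1.symm.sup_right ((hR.com D hD).map π))
  · exact top_of _ h (hker c1)

theorem class_perfect {S : Set (Subgroup G)} (hS : IsRootSubgroupClass S) (hni : ∀ A ∈ S, NI S A)
    (h3 : (∃ A ∈ S, ∃ B ∈ S, ⁅A, B⁆ ∈ S) ∨ ∀ A ∈ S, ∀ B ∈ S, IsRankOnePair A B → ⁅A ⊔ B, A ⊔ B⁆ = A ⊔ B) :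
    _root_.commutator G = ⊤ := by
  rw [eq_top_iff, ← hS.1.generates]
  refine iSup₂_le fun A hA => ?_
  rcases h3 with h3 | h3
  · obtain ⟨C, -, D, -, e⟩ := class_comm hS h3 hA
    rw [← e]; exact commutator_mono le_top le_top
  · obtain ⟨B, hB, h⟩ := hni A hA
    exact le_sup_left.trans ((h3 A hA B hB h).symm.le.trans (commutator_mono le_top le_top))

theorem class_quasisimple {S : Set (Subgroup G)} (hS : IsRootSubgroupClass S) (hni : ∀ A ∈ S, NI S A)
    (h2 : ∀ A ∈ S, ∀ C ∈ S, (∀ E ∈ S, Com E A ↔ Com E C) → A = C)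
    (h3 : (∃ A ∈ S, ∃ B ∈ S, ⁅A, B⁆ ∈ S) ∨ ∀ A ∈ S, ∀ B ∈ S, IsRankOnePair A B → ⁅A ⊔ B, A ⊔ B⁆ = A ⊔ B) :
    IsQuasisimple G := by
  haveI : Group.IsPerfect G := ⟨class_perfect hS hni h3⟩
  obtain ⟨A, hA⟩ := hS.2.1
  obtain ⟨a, -, ha1⟩ := (rs_of hS.1).exists_ne_one hA
  haveI : Nontrivial G := ⟨⟨a, 1, ha1⟩⟩
  exact Comp2.quasisimple_of_normal fun N hN => normal_top_or_center hS hni h2 h3 N

end Cfsg.Agent.Root
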