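import Mathlib
import Cfsg.Prelude.Def_RootSubgroups
import Cfsg.Agent.Inv.Dihedral
import Cfsg.Agent.Fischer.Dihedral
import Cfsg.Agent.H2.SubnormalCore
import Cfsg.Agent.LocalEven.Cores

/-! Root involutions: the elementary calculus. -/

namespace Cfsg.Agent.Root

open Subgroup
open scoped commutatorElement

variable {G : Type*} [Group G]

/-- A set of root involutions (closed under conjugation by its own members). -/
structure RI (D : Set G) : Prop where
  two : ∀ d ∈ D, orderOf d = 2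
  conjD : ∀ d ∈ D, ∀ e ∈ D, e * d * e ∈ D
  pair : ∀ a ∈ D, ∀ b ∈ D, a * b = b * a ∨ Odd (orderOf (a * b)) ∨
    (orderOf (a * b) = 4 ∧ (a * b) ^ 2 ∈ D)

/-- different elements with a product of odd order -/
def OP2 (a b : G) : Prop := a ≠ b ∧ Odd (orderOf (a * b))

theorem inv_of_sq {a : G} (ha : a * a = 1) : a⁻¹ = a := inv_eq_of_mul_eq_one_right ha

theorem mul_mul_of_sq {a : G} (ha : a * a = 1) (x : G) : a * (a * x) = x := by
  rw [← mul_assoc, ha, one_mul]

theorem eq_one_of_odd_of_pow_two_pow {x : G} (ho : Odd (orderOf x)) {k : ℕ} (h : x ^ 2 ^ k = 1) :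
    x = 1 := by
  have h1 : orderOf x ∣ 2 ^ k := orderOf_dvd_of_pow_eq_one h
  have h2 : (orderOf x).Coprime (2 ^ k) :=
    Nat.Coprime.pow_right k (Nat.coprime_two_right.mpr ho)
  exact orderOf_eq_one_iff.mp (Nat.Coprime.eq_one_of_dvd h2 h1)

theorem eq_one_of_odd_of_sq {x : G} (ho : Odd (orderOf x)) (h : x * x = 1) : x = 1 :=
  eq_one_of_odd_of_pow_two_pow ho (k := 1) (by simpa [pow_two] using h)

theorem eq_one_of_odd_of_four {x : G} (ho : Odd (orderOf x)) (h : x ^ 4 = 1) : x = 1 :=
  eq_one_of_odd_of_pow_two_pow ho (k := 2) (by simpa using h)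

theorem odd_orderOf_of_pow {x : G} {n : ℕ} (hn : Odd n) (h : x ^ n = 1) : Odd (orderOf x) :=
  Odd.of_dvd_nat hn (orderOf_dvd_of_pow_eq_one h)

theorem exists_sq_pow_of_odd {x : G} (ho : Odd (orderOf x)) : ∃ k : ℕ, (x * x) ^ k = x := by
  obtain ⟨m, hm⟩ := ho
  refine ⟨m + 1, ?_⟩
  have h := pow_orderOf_eq_one x
  rw [hm] at h
  calc (x * x) ^ (m + 1) = x ^ (2 * m + 1) * x := by rw [← pow_two, ← pow_mul, ← pow_succ]; ring_nf
    _ = x := by rw [h, one_mul]

theorem orderOf_mul_swap (a b : G) : orderOf (b * a) = orderOf (a * b) := by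
  have : b * a = a⁻¹ * (a * b) * a := by group
  rw [this, Inv.orderOf_conj']

theorem OP2.symm {a b : G} (h : OP2 a b) : OP2 b a :=
  ⟨h.1.symm, by rw [orderOf_mul_swap]; exact h.2⟩

theorem OP2.conj {a b : G} (h : OP2 a b) (g : G) : OP2 (g * a * g⁻¹) (g * b * g⁻¹) := by
  refine ⟨fun e => h.1 (by simpa using e), ?_⟩
  have : g * a * g⁻¹ * (g * b * g⁻¹) = g * (a * b) * g⁻¹ := by group
  rw [this, Inv.orderOf_conj]; exact h.2

theorem OP2.irrefl (a : G) : ¬ OP2 a a := fun h => h.1 rfl

theorem OP2.mul_ne_one {a b : G} (hb : b * b = 1) (h : OP2 a b) : a * b ≠ 1 := by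
  intro e
  apply h.1
  calc a = a * b * b := by rw [mul_assoc, hb, mul_one]
    _ = b := by rw [e, one_mul]

theorem OP2.not_four {a b : G} (hb : b * b = 1) (h : OP2 a b) : (a * b) ^ 4 ≠ 1 :=
  fun e => h.mul_ne_one hb (eq_one_of_odd_of_four h.2 e)

theorem sq_mul_of_comm {a b : G} (ha : a * a = 1) (hb : b * b = 1) (h : a * b = b * a) :
    a * b * (a * b) = 1 := by
  calc a * b * (a * b) = a * (b * a) * b := by group
    _ = a * a * (b * b) := by rw [← h]; group
    _ = 1 := by rw [ha, hb, one_mul]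

theorem comm_of_sq_mul {a b : G} (ha : a * a = 1) (hb : b * b = 1) (h : a * b * (a * b) = 1) :
    a * b = b * a := by
  have : a * b = (a * b)⁻¹ := (inv_eq_of_mul_eq_one_right h).symm
  rw [this, mul_inv_rev, inv_of_sq ha, inv_of_sq hb]

theorem OP2.not_comm {a b : G} (ha : a * a = 1) (hb : b * b = 1) (h : OP2 a b) :
    a * b ≠ b * a := fun e =>
  h.mul_ne_one hb (eq_one_of_odd_of_sq h.2 (sq_mul_of_comm ha hb e))

theorem four_of_comm_conj {a b : G} (ha : a * a = 1) (hb : b * b = 1)
    (h : a * (b * a * b) = b * a * b * a) : (a * b) ^ 4 = 1 := by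
  have h2 : b * a * b * (b * a * b) = 1 := by
    simp only [mul_assoc, mul_mul_of_sq hb, mul_mul_of_sq ha, hb]
  have := sq_mul_of_comm ha h2 h
  calc (a * b) ^ 4 = a * (b * a * b) * (a * (b * a * b)) := by simp only [pow_succ, pow_zero]; group
    _ = 1 := this

theorem comm_conj_of_four {a b : G} (ha : a * a = 1) (hb : b * b = 1) (h : (a * b) ^ 4 = 1) :
    a * (b * a * b) = b * a * b * a := by
  have h2 : b * a * b * (b * a * b) = 1 := by
    simp only [mul_assoc, mul_mul_of_sq hb, mul_mul_of_sq ha, hb]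
  apply comm_of_sq_mul ha h2
  rw [← h]; simp only [pow_succ, pow_zero]; group

theorem OP2.not_comm_conj {a b : G} (ha : a * a = 1) (hb : b * b = 1) (h : OP2 a b) :
    a * (b * a * b) ≠ b * a * b * a := fun e => h.not_four hb (four_of_comm_conj ha hb e)

theorem not_comm_of_four {a b : G} (ha : a * a = 1) (hb : b * b = 1) (h : orderOf (a * b) = 4) :
    a * b ≠ b * a := by
  intro e
  have h1 : (a * b) ^ 2 = 1 := by rw [pow_two]; exact sq_mul_of_comm ha hb e
  have := orderOf_dvd_of_pow_eq_one h1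
  rw [h] at this
  omega

theorem not_OP2_of_four {a b : G} (h : orderOf (a * b) = 4) : ¬ OP2 a b := by
  intro e; have := e.2; rw [h] at this; exact absurd this (by decide)

/-- anything commuting with `y` and `e y e` commutes with `e` when `y e` has odd order -/
theorem comm_of_odd {y e z : G} (hy : y * y = 1) (ho : Odd (orderOf (y * e)))
    (h1 : z * y = y * z) (h2 : z * (e * y * e) = e * y * e * z) : z * e = e * z := by
  obtain ⟨k, hk⟩ := exists_sq_pow_of_odd ho
  have c1 : Commute z y := h1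
  have c2 : Commute z (e * y * e) := h2
  have c3 : Commute z (y * e * (y * e)) := by
    have : y * e * (y * e) = y * (e * y * e) := by group
    rw [this]; exact c1.mul_right c2
  have c4 : Commute z (y * e) := by rw [← hk]; exact c3.pow_right k
  have c5 : Commute z (y * (y * e)) := c1.mul_right c4
  rw [mul_mul_of_sq hy] at c5
  exact c5

theorem isPGroup_closure_pair {x y : G} (hx : x * x = 1) (hy : y * y = 1) (h : (x * y) ^ 4 = 1) :
    IsPGroup 2 (closure ({x, y} : Set G)) := by
  rintro ⟨d, hd⟩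
  refine ⟨2, Subtype.ext ?_⟩
  obtain ⟨k, hk | hk⟩ := (Inv.mem_closure_invol_iff hx hy).mp hd
  · show d ^ (2 ^ 2) = 1
    rw [hk, ← zpow_natCast, ← zpow_mul, mul_comm, zpow_mul, zpow_natCast]
    have : (x * y) ^ (2 ^ 2) = 1 := by simpa using h
    rw [this, one_zpow]
  · show d ^ (2 ^ 2) = 1
    have h2 : d * d = 1 := by
      rw [hk]
      exact Inv.mul_self_of_inverts hx (Inv.conj_zpow_of_inverts (Inv.inverts_mul_left hx hy) k)
    have : d ^ (2 ^ 2) = d * d * (d * d) := by
      show d ^ 4 = _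
      simp only [pow_succ, pow_zero]; group
    rw [this, h2, one_mul]

namespace RI

variable {D : Set G}

theorem of_set (h : IsRootInvolutionSet D) : RI D :=
  ⟨h.orderOf_eq, fun d hd e he => by
    have := h.conj_mem d hd e
    rwa [Inv.inv_eq_of_two (h.orderOf_eq e he)] at this, h.pair⟩

theorem sq (h : RI D) {a : G} (ha : a ∈ D) : a * a = 1 := Inv.mul_self_of_two (h.two a ha)

theorem inv (h : RI D) {a : G} (ha : a ∈ D) : a⁻¹ = a := Inv.inv_eq_of_two (h.two a ha)

theorem ne_one (h : RI D) {a : G} (ha : a ∈ D) : a ≠ 1 := Inv.ne_one_of_two (h.two a ha)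

theorem mm (h : RI D) {a : G} (ha : a ∈ D) (x : G) : a * (a * x) = x := mul_mul_of_sq (h.sq ha) x

theorem conj_mem (h : RI D) {g : G} (hg : g ∈ closure D) {d : G} (hd : d ∈ D) :
    g * d * g⁻¹ ∈ D := by
  have key : ∀ g ∈ closure D, (∀ d ∈ D, g * d * g⁻¹ ∈ D) ∧ (∀ d ∈ D, g⁻¹ * d * g ∈ D) := by
    intro g hg
    induction hg using closure_induction with
    | mem e he =>
      refine ⟨fun d hd => ?_, fun d hd => ?_⟩ <;> rw [h.inv he] <;> exact h.conjD d hd e he
    | one => exact ⟨fun d hd => by simpa using hd, fun d hd => by simpa using hd⟩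
    | mul x y _ _ hx hy =>
      refine ⟨fun d hd => ?_, fun d hd => ?_⟩
      · have := hx.1 _ (hy.1 d hd)
        convert this using 1; group
      · have := hy.2 _ (hx.2 d hd)
        convert this using 1; group
    | inv x _ hx => exact ⟨fun d hd => by simpa using hx.2 d hd, fun d hd => by simpa using hx.1 d hd⟩
  exact (key g hg).1 d hd

theorem tri (h : RI D) {a b : G} (ha : a ∈ D) (hb : b ∈ D) :
    a * b = b * a ∨ OP2 a b ∨ (orderOf (a * b) = 4 ∧ a * b * a * b ∈ D) := by
  by_cases e : a = b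
  · left; rw [e]
  rcases h.pair a ha b hb with h1 | h1 | h1
  · exact Or.inl h1
  · exact Or.inr (Or.inl ⟨e, h1⟩)
  · refine Or.inr (Or.inr ⟨h1.1, ?_⟩)
    have := h1.2
    rwa [pow_two, ← mul_assoc] at this

theorem four_of_not_OP2 (h : RI D) {a b : G} (ha : a ∈ D) (hb : b ∈ D) (hn : ¬ OP2 a b) :
    (a * b) ^ 4 = 1 := by
  rcases h.tri ha hb with h1 | h1 | h1
  · have := sq_mul_of_comm (h.sq ha) (h.sq hb) h1
    calc (a * b) ^ 4 = a * b * (a * b) * (a * b * (a * b)) := by
          simp only [pow_succ, pow_zero]; group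
      _ = 1 := by rw [this, one_mul]
  · exact absurd h1 hn
  · rw [← h1.1]; exact pow_orderOf_eq_one _

theorem comm_conj (h : RI D) {a b : G} (ha : a ∈ D) (hb : b ∈ D) (hn : ¬ OP2 a b) :
    a * (b * a * b) = b * a * b * a :=
  comm_conj_of_four (h.sq ha) (h.sq hb) (h.four_of_not_OP2 ha hb hn)

theorem four_of (h : RI D) {a b : G} (ha : a ∈ D) (hb : b ∈ D) (hn : ¬ OP2 a b)
    (hc : a * b ≠ b * a) : orderOf (a * b) = 4 ∧ a * b * a * b ∈ D := by
  rcases h.tri ha hb with h1 | h1 | h1
  · exact absurd h1 hc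
  · exact absurd h1 hn
  · exact h1

theorem com_mem (h : RI D) {a b : G} (ha : a ∈ D) (hb : b ∈ D) (h4 : orderOf (a * b) = 4) :
    a * b * a * b ∈ D :=
  (h.four_of ha hb (not_OP2_of_four h4) (not_comm_of_four (h.sq ha) (h.sq hb) h4)).2

/-- no product of two members has order twice an odd number greater than one -/
theorem two_m (h : RI D) {z s t w : G} (hz : z ∈ D) (hs : s ∈ D) (ht : t * t = 1) (ht1 : t ≠ 1)
    (hc : t * w = w * t) (hw : Odd (orderOf w)) (hw1 : w ≠ 1) (e : z * s = t * w) : False := by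
  have c : Commute t w := hc
  have ht2 : t ^ 2 = 1 := by rw [pow_two, ht]
  by_cases ho : OP2 z s
  · have h1 : (t * w) ^ (orderOf (z * s) * orderOf w) = 1 := by
      rw [← e, pow_mul, pow_orderOf_eq_one, one_pow]
    rw [c.mul_pow, mul_comm (orderOf (z * s)), pow_mul w, pow_orderOf_eq_one, one_pow,
      mul_one] at h1
    exact ht1 (eq_one_of_odd_of_sq (odd_orderOf_of_pow (hw.mul ho.2) h1) ht)
  · have h4 := h.four_of_not_OP2 hz hs ho
    rw [e, c.mul_pow, show (4 : ℕ) = 2 * 2 from rfl, pow_mul t, ht2, one_pow, one_mul] at h4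
    exact hw1 (eq_one_of_odd_of_four hw h4)

/-- if `t, u, t u` is a line then nothing commuting with `t` is an odd partner of `u` -/
theorem not_OP2_line (h : RI D) {z t u : G} (hz : z ∈ D) (ht : t ∈ D) (hu : u ∈ D)
    (htu : t * u ∈ D) (hc : t * u = u * t) (hzt : z * t = t * z) : ¬ OP2 z u := by
  intro ho
  refine h.two_m hz htu (h.sq ht) (h.ne_one ht) (w := z * u) ?_ ho.2 (ho.mul_ne_one (h.sq hu)) ?_
  · calc t * (z * u) = z * (t * u) := by rw [← mul_assoc, ← hzt, mul_assoc]
      _ = z * u * t := by rw [hc, mul_assoc]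
  · rw [← mul_assoc, hzt, mul_assoc]

theorem comm_of_mul_mem (h : RI D) {a e : G} (ha : a ∈ D) (he : e ∈ D) (hae : a * e ∈ D) :
    a * e = e * a := comm_of_sq_mul (h.sq ha) (h.sq he) (h.sq hae)

/-- an odd partner of one point of a line is an odd partner of a second one -/
theorem line_odd (h : RI D) {a e y : G} (ha : a ∈ D) (he : e ∈ D) (hae : a * e ∈ D) (hy : y ∈ D)
    (ho : OP2 y e) : OP2 y a ∨ OP2 y (a * e) := by
  by_contra hn
  push Not at hn
  have hc := h.comm_of_mul_mem ha he hae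
  have h1 := h.comm_conj hy ha hn.1
  have h2 := h.comm_conj hy hae hn.2
  have ha2 := h.sq ha
  have he2 := h.sq he
  have hy2 := h.sq hy
  have ho' : Odd (orderOf (a * y * a * e)) := by
    have : a * y * a * e = a * (y * e) * a⁻¹ := by
      rw [h.inv ha, mul_assoc (a * y), hc]; group
    rw [this, Inv.orderOf_conj]; exact ho.2
  have hz : a * y * a * (a * y * a) = 1 := by
    simp only [mul_assoc, h.mm ha, h.mm hy, ha2]
  have h3 : e * (a * y * a) * e = a * e * y * (a * e) := by
    rw [hc]; nth_rewrite 2 [← hc]; group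
  have := comm_of_odd (z := y) hz ho' h1 (by rw [h3]; exact h2)
  exact ho.not_comm hy2 he2 this

theorem refl_mem (h : RI D) {a b : G} (ha : a ∈ D) (hb : b ∈ D) (n : ℕ) :
    a * (a * b) ^ n ∈ D := by
  induction n using Nat.twoStepInduction with
  | zero => simpa using ha
  | one => simpa [h.mm ha] using hb
  | more n ih _ =>
    have h1 := h.conjD _ (h.conjD _ ih a ha) b hb
    have e : b * (a * (a * (a * b) ^ n) * a) * b = a * (a * b) ^ (n + 2) := by
      have e1 : b * a = a * (a * b) * a := by simp only [mul_assoc, h.mm ha]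
      have e2 : a * (a * b) ^ (n + 2) = b * (a * b) ^ n * (a * b) := by
        rw [show n + 2 = 1 + n + 1 by ring, pow_succ, pow_add, pow_one]
        simp only [mul_assoc, h.mm ha]
      rw [e2]; simp only [mul_assoc, h.mm ha]
    rwa [e] at h1

theorem midpoint (h : RI D) {a b : G} (ha : a ∈ D) (hb : b ∈ D) (ho : Odd (orderOf (a * b))) :
    ∃ m ∈ D, m ∈ closure ({a, b} : Set G) ∧ m * a * m = b := by
  obtain ⟨k, hk⟩ := ho
  have h1 : (a * b) ^ (2 * k + 1) = 1 := by rw [← hk]; exact pow_orderOf_eq_one _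
  refine ⟨_, h.refl_mem ha hb (k + 1), ?_, Fischer.dihedral_midpoint (h.sq ha) (h.sq hb) h1⟩
  have m1 : a ∈ closure ({a, b} : Set G) := subset_closure (by simp)
  have m2 : b ∈ closure ({a, b} : Set G) := subset_closure (by simp)
  exact mul_mem m1 (pow_mem (mul_mem m1 m2) _)

end RI

end Cfsg.Agent.Root
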