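import Mathlib
import Cfsg.Agent.Root.Map
import Cfsg.Agent.Root.SL2
import Cfsg.Agent.Root.RI1

/-! One-parameter groups `1 + t α` (with `α² = 0`) in a group embedded in an algebra. -/

namespace Cfsg.Agent.Root

open Subgroup Cfsg.Agent.LocalEven Matrix
open scoped commutatorElement MatrixGroups

variable {k : Type*} [Field k] {R : Type*} [Ring R] [Algebra k R] {G : Type*} [Group G]

theorem iota_inv (ι : G →* R) {g : G} {x : R} (h : ι g * x = 1) : ι g⁻¹ = x := by
  calc ι g⁻¹ = ι g⁻¹ * (ι g * x) := by rw [h, mul_one]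
    _ = x := by rw [← mul_assoc, ← map_mul, inv_mul_cancel, map_one, one_mul]

theorem one_add_mul {α : R} (h : α * α = 0) (s t : k) :
    (1 + s • α) * (1 + t • α) = 1 + (s + t) • α := by
  simp only [mul_add, add_mul, one_mul, mul_one, smul_mul_assoc, mul_smul_comm, h, smul_zero,
    add_zero]
  module

variable (k) in
/-- the one-parameter group -/
def TG (ι : G →* R) (α : R) (h : α * α = 0) : Subgroup G where
  carrier := {g | ∃ t : k, ι g = 1 + t • α}
  one_mem' := ⟨0, by simp⟩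
  mul_mem' := by
    rintro a b ⟨s, hs⟩ ⟨t, ht⟩
    exact ⟨s + t, by rw [map_mul, hs, ht, one_add_mul h]⟩
  inv_mem' := by
    rintro a ⟨s, hs⟩
    exact ⟨-s, iota_inv ι (by rw [hs, one_add_mul h]; simp)⟩

variable (k) in
/-- all of `1 + t α` lie in the group -/
def Full (ι : G →* R) (α : R) : Prop := ∀ t : k, ∃ g, ι g = 1 + t • α

variable {ι : G →* R} {α β : R}

theorem mem_TG {h : α * α = 0} {g : G} : g ∈ TG k ι α h ↔ ∃ t : k, ι g = 1 + t • α := Iff.rfl

theorem Full.smul (h : Full k ι α) (c : k) : Full k ι (c • α) := fun t => by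
  rw [smul_smul]; exact h _

theorem TG_smul {c : k} (hc : c ≠ 0) (h : α * α = 0) (h' : (c • α) * (c • α) = 0) :
    TG k ι (c • α) h' = TG k ι α h := by
  ext g
  constructor
  · rintro ⟨t, ht⟩; exact ⟨t * c, by rw [ht, smul_smul]⟩
  · rintro ⟨t, ht⟩; exact ⟨t * c⁻¹, by rw [ht, smul_smul, mul_assoc, inv_mul_cancel₀ hc, mul_one]⟩

theorem TG_congr (e : α = β) (h : α * α = 0) (h' : β * β = 0) : TG k ι α h = TG k ι β h' := by
  subst e; rfl

theorem iota_conj (ι : G →* R) (g x : G) (t : k) (hx : ι x = 1 + t • α) :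
    ι (g * x * g⁻¹) = 1 + t • (ι g * α * ι g⁻¹) := by
  rw [map_mul, map_mul, hx, mul_add, add_mul, mul_one, ← map_mul, mul_inv_cancel, map_one,
    mul_smul_comm, smul_mul_assoc]

theorem conj_sq (ι : G →* R) (g : G) (h : α * α = 0) :
    ι g * α * ι g⁻¹ * (ι g * α * ι g⁻¹) = 0 := by
  have : ι g⁻¹ * ι g = 1 := by rw [← map_mul, inv_mul_cancel, map_one]
  calc ι g * α * ι g⁻¹ * (ι g * α * ι g⁻¹) = ι g * α * (ι g⁻¹ * ι g) * α * ι g⁻¹ := by
        simp only [mul_assoc]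
    _ = 0 := by rw [this, mul_one, mul_assoc (ι g), h, mul_zero, zero_mul]

theorem cj_TG (g : G) (h : α * α = 0) :
    cj g (TG k ι α h) = TG k ι (ι g * α * ι g⁻¹) (conj_sq ι g h) := by
  ext x
  rw [mem_cj']
  constructor
  · rintro ⟨y, ⟨t, ht⟩, rfl⟩
    exact ⟨t, iota_conj ι g y t ht⟩
  · rintro ⟨t, ht⟩
    refine ⟨g⁻¹ * x * g, ⟨t, ?_⟩, by group⟩
    have := iota_conj ι g⁻¹ x t ht
    rw [inv_inv] at this
    rw [this]
    have e1 : ι g⁻¹ * ι g = 1 := by rw [← map_mul, inv_mul_cancel, map_one]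
    congr 2
    calc ι g⁻¹ * (ι g * α * ι g⁻¹) * ι g = (ι g⁻¹ * ι g) * α * (ι g⁻¹ * ι g) := by
          simp only [mul_assoc]
      _ = α := by rw [e1, one_mul, mul_one]

/-- the representation of `SL₂` from matrix units -/
def muHom (ha : α * α = 0) (hb : β * β = 0) (h1 : α * β * α = α) (h2 : β * α * β = β) :
    SL(2, k) →* R where
  toFun m := 1 + (m.1 0 0 - 1) • (α * β) + m.1 0 1 • α + m.1 1 0 • β + (m.1 1 1 - 1) • (β * α)
  map_one' := by simp
  map_mul' m m' := by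
    have ha' : ∀ x, α * (α * x) = 0 := fun x => by rw [← mul_assoc, ha, zero_mul]
    have hb' : ∀ x, β * (β * x) = 0 := fun x => by rw [← mul_assoc, hb, zero_mul]
    have h1' : ∀ x, α * (β * (α * x)) = α * x := fun x => by rw [← mul_assoc, ← mul_assoc, h1]
    have h2' : ∀ x, β * (α * (β * x)) = β * x := fun x => by rw [← mul_assoc, ← mul_assoc, h2]
    rw [mul_assoc] at h1 h2
    have e : ∀ i j, (m * m').1 i j = m.1 i 0 * m'.1 0 j + m.1 i 1 * m'.1 1 j := fun i j => by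
      simp [Matrix.mul_apply, Fin.sum_univ_two]
    simp only [e, mul_add, add_mul,
      one_mul, mul_one, smul_mul_assoc, mul_smul_comm, mul_assoc, ha', hb', h1', h2', h1, h2, ha,
      hb, mul_zero, zero_mul, smul_zero, add_zero, zero_add]
    module

variable (hι : Function.Injective ι)
include hι

theorem TG_com {ha : α * α = 0} {hb : β * β = 0} (h : α * β = β * α) :
    Com (TG k ι α ha) (TG k ι β hb) := by
  rintro a ⟨s, hs⟩ b ⟨t, ht⟩
  apply hι
  rw [map_mul, map_mul, hs, ht]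
  simp only [mul_add, add_mul, one_mul, mul_one, smul_mul_assoc, mul_smul_comm, h]
  module

omit hι in
theorem TG_ne_bot {ha : α * α = 0} (hf : Full k ι α) (h0 : α ≠ 0) : TG k ι α ha ≠ ⊥ := by
  obtain ⟨g, hg⟩ := hf 1
  intro e
  have : g ∈ TG k ι α ha := ⟨1, hg⟩
  rw [e, mem_bot] at this
  rw [this, map_one, one_smul] at hg
  exact h0 (by simpa using hg)

omit hι in
theorem not_com_TG {ha : α * α = 0} {hb : β * β = 0} (hf : Full k ι α) (hf' : Full k ι β)
    (h : α * β ≠ β * α) : ¬ Com (TG k ι α ha) (TG k ι β hb) := by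
  intro c
  obtain ⟨a, e1⟩ := hf 1
  obtain ⟨b, e2⟩ := hf' 1
  have := congrArg ι (c a ⟨1, e1⟩ b ⟨1, e2⟩)
  rw [map_mul, map_mul, e1, e2] at this
  simp only [mul_add, add_mul, one_mul, mul_one, one_smul] at this
  apply h
  have e3 : α * β - β * α = (1 + α + (β + α * β)) - (1 + β + (α + β * α)) := by abel
  rw [this, sub_self] at e3
  exact sub_eq_zero.mp e3

theorem exists_sl2_hom (ha : α * α = 0) (hb : β * β = 0) (h1 : α * β * α = α)
    (h2 : β * α * β = β) (hf : Full k ι α) (hf' : Full k ι β) :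
    ∃ φ : SL(2, k) →* G, (∀ t, ι (φ (mU t)) = 1 + t • α) ∧ ∀ t, ι (φ (mL t)) = 1 + t • β := by
  let ψ : SL(2, k) →* R := muHom ha hb h1 h2
  have e1 : ∀ t : k, ψ (mU t) = 1 + t • α := fun t => by simp [ψ, muHom]
  have e2 : ∀ t : k, ψ (mL t) = 1 + t • β := fun t => by simp [ψ, muHom]
  let K : Subgroup SL(2, k) :=
    { carrier := {m | ∃ g, ι g = ψ m}
      one_mem' := ⟨1, by simp⟩
      mul_mem' := by
        rintro a b ⟨g, hg⟩ ⟨g', hg'⟩
        exact ⟨g * g', by rw [map_mul, map_mul, hg, hg']⟩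
      inv_mem' := by
        rintro a ⟨g, hg⟩
        exact ⟨g⁻¹, iota_inv ι (by rw [hg, ← map_mul, mul_inv_cancel, map_one])⟩ }
  have hK : ∀ m, ∃ g, ι g = ψ m := by
    intro m
    have : (⊤ : Subgroup SL(2, k)) ≤ K := by
      rw [← upper_sup_lower, sup_le_iff]
      constructor
      · intro g hg
        obtain ⟨t, rfl⟩ := mem_upper.1 hg
        show ∃ g, ι g = ψ (mU t)
        rw [e1]; exact hf t
      · intro g hg
        obtain ⟨t, rfl⟩ := mem_lower.1 hg
        show ∃ g, ι g = ψ (mL t)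
        rw [e2]; exact hf' t
    exact this (mem_top m)
  choose f hf using hK
  refine ⟨MonoidHom.mk' f fun a b => hι ?_, fun t => ?_, fun t => ?_⟩
  · rw [map_mul, hf, hf, hf, map_mul]
  · exact (hf _).trans (e1 t)
  · exact (hf _).trans (e2 t)

theorem TG_psl2 (ha : α * α = 0) (hb : β * β = 0) (h1 : α * β * α = α)
    (h2 : β * α * β = β) (hf : Full k ι α) (hf' : Full k ι β) (h0 : α ≠ 0) :
    IsPSL2PairOver k (TG k ι α ha) (TG k ι β hb) ∧ IsRankOnePair (TG k ι α ha) (TG k ι β hb) := by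
  obtain ⟨φ, e1, e2⟩ := exists_sl2_hom hι ha hb h1 h2 hf hf'
  have m1 : (upperUnipotentSL2 k).map φ = TG k ι α ha := by
    ext x
    constructor
    · rintro ⟨g, hg, rfl⟩
      obtain ⟨t, rfl⟩ := mem_upper.1 hg
      exact ⟨t, e1 t⟩
    · rintro ⟨t, ht⟩
      exact ⟨mU t, mU_mem t, hι (by rw [e1, ht])⟩
  have m2 : (lowerUnipotentSL2 k).map φ = TG k ι β hb := by
    ext x
    constructor
    · rintro ⟨g, hg, rfl⟩
      obtain ⟨t, rfl⟩ := mem_lower.1 hg
      exact ⟨t, e2 t⟩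
    · rintro ⟨t, ht⟩
      exact ⟨mL t, mL_mem t, hι (by rw [e2, ht])⟩
  have hne : α * β ≠ β * α := by
    intro e
    apply h0
    rw [← h1, e, mul_assoc, ha, mul_zero]
  have nc := not_com_TG (ha := ha) (hb := hb) hf hf' hne
  refine ⟨⟨φ, ?_, ?_, m1, m2⟩, ?_⟩
  · rw [← m1, ← m2, ← Subgroup.map_sup, upper_sup_lower, MonoidHom.range_eq_map]
  · apply sl2_ker_le_center
    by_contra hn
    push Not at hn
    apply nc
    rw [← m1, ← m2]
    rintro _ ⟨g, hg, rfl⟩ _ ⟨g', hg', rfl⟩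
    obtain ⟨t, rfl⟩ := mem_upper.1 hg
    obtain ⟨u, rfl⟩ := mem_lower.1 hg'
    exact hn t u
  · rw [← m1, ← m2]
    apply r1_map r1_sl2
    rw [m1, m2]
    intro e
    apply nc
    rw [← e]
    exact TG_com hι rfl

omit hι in
theorem iota_commutator (ha : α * α = 0) (hb : β * β = 0) (h : β * α = 0) {a b : G} {s t : k}
    (hs : ι a = 1 + s • α) (ht : ι b = 1 + t • β) : ι ⁅a, b⁆ = 1 + (s * t) • (α * β) := by
  have i1 : ι a⁻¹ = 1 + (-s) • α := iota_inv ι (by rw [hs, one_add_mul ha]; simp)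
  have i2 : ι b⁻¹ = 1 + (-t) • β := iota_inv ι (by rw [ht, one_add_mul hb]; simp)
  have ha' : ∀ x, α * (α * x) = 0 := fun x => by rw [← mul_assoc, ha, zero_mul]
  have hb' : ∀ x, β * (β * x) = 0 := fun x => by rw [← mul_assoc, hb, zero_mul]
  have h' : ∀ x, β * (α * x) = 0 := fun x => by rw [← mul_assoc, h, zero_mul]
  rw [commutatorElement_def, map_mul, map_mul, map_mul, hs, ht, i1, i2]
  simp only [mul_add, add_mul, one_mul, mul_one, smul_mul_assoc, mul_smul_comm, mul_assoc, ha', hb',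
    h', ha, hb, h, mul_zero, smul_zero, add_zero]
  module

omit hι in
theorem mul_sq_zero (h : β * α = 0) : α * β * (α * β) = 0 := by
  rw [mul_assoc, ← mul_assoc β, h, zero_mul, mul_zero]

theorem TG_cc (ha : α * α = 0) (hb : β * β = 0) (h : β * α = 0) (hf : Full k ι α)
    (hf' : Full k ι β) :
    ⁅TG k ι α ha, TG k ι β hb⁆ = TG k ι (α * β) (mul_sq_zero h) ∧
      CC (TG k ι α ha) (TG k ι β hb) := by
  have e : ⁅TG k ι α ha, TG k ι β hb⁆ = TG k ι (α * β) (mul_sq_zero h) := by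
    apply le_antisymm
    · rw [commutator_le]
      rintro a ⟨s, hs⟩ b ⟨t, ht⟩
      exact ⟨s * t, iota_commutator ha hb h hs ht⟩
    · rintro c ⟨u, hu⟩
      obtain ⟨a, e1⟩ := hf u
      obtain ⟨b, e2⟩ := hf' 1
      have : c = ⁅a, b⁆ := hι (by rw [iota_commutator ha hb h e1 e2, hu, mul_one])
      rw [this]
      exact commutator_mem_commutator ⟨u, e1⟩ ⟨1, e2⟩
  refine ⟨e, ?_, ?_, ?_, ?_⟩
  · rw [e]; apply TG_com hι
    rw [mul_assoc, h, mul_zero, ← mul_assoc, ha, zero_mul]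
  · rw [e]; apply TG_com hι
    rw [mul_assoc, hb, mul_zero, ← mul_assoc, h, zero_mul]
  · rw [e]
    rintro a ⟨s, hs⟩ a1 c ⟨u, hu⟩
    have hs0 : s ≠ 0 := by
      rintro rfl
      exact a1 (hι (by simpa using hs))
    obtain ⟨b, e2⟩ := hf' (s⁻¹ * u)
    refine ⟨b, ⟨_, e2⟩, hι ?_⟩
    rw [iota_commutator ha hb h hs e2, hu, mul_inv_cancel_left₀ hs0]
  · rw [e]
    rintro b ⟨t, ht⟩ b1 c ⟨u, hu⟩
    have ht0 : t ≠ 0 := by
      rintro rfl
      exact b1 (hι (by simpa using ht))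
    obtain ⟨a, e2⟩ := hf (u * t⁻¹)
    refine ⟨a, ⟨_, e2⟩, hι ?_⟩
    rw [iota_commutator ha hb h e2 ht, hu, inv_mul_cancel_right₀ ht0]

theorem TG_psl2' (ha : α * α = 0) (hb : β * β = 0) {c : k} (hc : c ≠ 0) (h1 : α * β * α = c • α)
    (h2 : β * α * β = c • β) (hf : Full k ι α) (hf' : Full k ι β) (h0 : α ≠ 0) :
    IsPSL2PairOver k (TG k ι α ha) (TG k ι β hb) ∧ IsRankOnePair (TG k ι α ha) (TG k ι β hb) := by
  have hb' : (c⁻¹ • β) * (c⁻¹ • β) = 0 := by simp [hb]
  rw [← TG_smul (inv_ne_zero hc) hb hb']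
  apply TG_psl2 hι ha hb' _ _ hf (hf'.smul _) h0
  · rw [mul_smul_comm, smul_mul_assoc, h1, smul_smul, inv_mul_cancel₀ hc, one_smul]
  · rw [mul_smul_comm, smul_mul_assoc, smul_mul_assoc, h2, smul_smul c⁻¹ c, inv_mul_cancel₀ hc,
      one_smul]

omit hι in
theorem odd_order_sl2 [Finite k] [CharP k 2] {l : k} (hl : l ≠ 0) :
    Odd (orderOf (mU (1 : k) * mL l)) := by
  have h2 : ∀ t : k, t + t = 0 := fun t => CharTwo.add_self_eq_zero t
  have ha : mU (1 : k) * mU 1 = 1 := by rw [← mU_add, h2, mU_zero]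
  have hb : mL l * mL l = 1 := by rw [← mL_add, h2, mL_zero]
  rw [← Nat.not_even_iff_odd]
  rintro ⟨m, hm⟩
  set w := mU (1 : k) * mL l with hw
  have hpos := orderOf_pos w
  have z2 : w ^ m * w ^ m = 1 := by rw [← pow_add, ← hm, pow_orderOf_eq_one]
  have z1 : w ^ m ≠ 1 := pow_ne_one_of_lt_orderOf (by omega) (by omega)
  have c1 : mU (1 : k) * w ^ m = w ^ m * mU 1 := by
    have := Fischer.conj_pow_invol ha hb m
    rw [← hw, inv_of_sq z2] at this
    calc mU (1 : k) * w ^ m = mU (1 : k) * w ^ m * (mU 1)⁻¹ * mU 1 := by group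
      _ = _ := by rw [this]
  have c2 : mL l * w ^ m = w ^ m * mL l := by
    have c3 : Commute (mU (1 : k)) (w ^ m) := c1
    have c4 : Commute w (w ^ m) := (Commute.refl w).pow_right m
    have c5 := c3.mul_left c4
    rw [hw, mul_mul_of_sq ha, ← hw] at c5
    exact c5
  generalize w ^ m = z at z1 c1 c2
  apply z1
  have d := m_det z
  have e1 := congrFun (congrFun (congrArg Subtype.val c1) 0) 0
  have e2 := congrFun (congrFun (congrArg Subtype.val c1) 0) 1
  have e3 := congrFun (congrFun (congrArg Subtype.val c2) 0) 0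
  simp [Matrix.mul_apply, Fin.sum_univ_two] at e1 e2 e3
  have e4 : z.1 0 1 = 0 := e3.resolve_right hl
  have e5 : z.1 1 1 = z.1 0 0 := by linear_combination e2
  have e6 : z.1 0 0 = 1 := by
    have : (z.1 0 0 - 1) ^ 2 = 0 := by
      rw [e4, e5] at d
      linear_combination d - h2 (z.1 0 0) + h2 1
    exact sub_eq_zero.mp (pow_eq_zero_iff (two_ne_zero) |>.mp this)
  ext i j
  fin_cases i <;> fin_cases j <;> simp [e1, e4, e5, e6]

end Cfsg.Agent.Root
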