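import Mathlib
import Cfsg.Agent.Root.TG
import Cfsg.Agent.Classical.Transv
import Cfsg.Agent.Classical.SLBasic

/-! Transvection subgroups of special linear groups. -/

namespace Cfsg.Agent.Root

open Subgroup Cfsg.Agent.LocalEven Matrix Cfsg.Agent.Classical.Transv
open scoped commutatorElement MatrixGroups

variable {k : Type*} [Field k] {ι : Type*} [Fintype ι] [DecidableEq ι]

omit [DecidableEq ι] in
theorem vv_mul (u φ v ψ : ι → k) :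
    vecMulVec u φ * vecMulVec v ψ = (φ ⬝ᵥ v) • vecMulVec u ψ := by
  rw [vecMulVec_mul_vecMulVec, vecMulVec_smul]

omit [DecidableEq ι] in
theorem vv_sq {u φ : ι → k} (h : φ ⬝ᵥ u = 0) : vecMulVec u φ * vecMulVec u φ = 0 := by
  rw [vv_mul, h, zero_smul]

omit [DecidableEq ι] in
theorem vv_aba (u φ v ψ : ι → k) :
    vecMulVec u φ * vecMulVec v ψ * vecMulVec u φ = ((φ ⬝ᵥ v) * (ψ ⬝ᵥ u)) • vecMulVec u φ := by
  rw [vv_mul, smul_mul_assoc, vv_mul, smul_smul]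

omit [DecidableEq ι] in
theorem exists_dot_two {φ ψ : ι → k} (h1 : ∃ v, φ ⬝ᵥ v ≠ 0) (h2 : ∃ v, ψ ⬝ᵥ v ≠ 0) :
    ∃ v, φ ⬝ᵥ v ≠ 0 ∧ ψ ⬝ᵥ v ≠ 0 := by
  obtain ⟨v, hv⟩ := h1
  obtain ⟨w, hw⟩ := h2
  by_cases e1 : ψ ⬝ᵥ v = 0
  · by_cases e2 : φ ⬝ᵥ w = 0
    · exact ⟨v + w, by rwa [dotProduct_add, e2, add_zero], by rwa [dotProduct_add, e1, zero_add]⟩
    · exact ⟨w, e2, hw⟩
  · exact ⟨v, hv, e1⟩

theorem exists_dot_right {φ : ι → k} (h : φ ≠ 0) : ∃ v, φ ⬝ᵥ v ≠ 0 := by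
  obtain ⟨v, hv⟩ := exists_dot_ne_zero h
  exact ⟨v, by rwa [dotProduct_comm]⟩

/-- the transvection group of an incident pair -/
def TS (u φ : ι → k) (h : φ ⬝ᵥ u = 0) : Subgroup (SpecialLinearGroup ι k) :=
  TG k SpecialLinearGroup.coeMonoidHom (vecMulVec u φ) (vv_sq h)

theorem full_vv {u φ : ι → k} (h : φ ⬝ᵥ u = 0) :
    Full k (SpecialLinearGroup.coeMonoidHom : SpecialLinearGroup ι k →* _) (vecMulVec u φ) :=
  fun t => ⟨tv u (t • φ) (by rw [smul_dotProduct, h, smul_zero]), by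
    rw [SpecialLinearGroup.coeMonoidHom_apply, tv_coe, vecMulVec_smul]⟩

theorem cj_TS (g : SpecialLinearGroup ι k) {u φ : ι → k} (h : φ ⬝ᵥ u = 0) :
    cj g (TS u φ h) = TS (g.1 *ᵥ u) (φ ᵥ* (g⁻¹).1) (by rw [sl_vecMul_inv_dot, h]) := by
  rw [TS, cj_TG]
  apply TG_congr
  simp only [SpecialLinearGroup.coeMonoidHom_apply]
  rw [mul_vecMulVec, vecMulVec_mul]

theorem TS_com {u φ v ψ : ι → k} (h : φ ⬝ᵥ u = 0) (h' : ψ ⬝ᵥ v = 0) (e1 : φ ⬝ᵥ v = 0)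
    (e2 : ψ ⬝ᵥ u = 0) : Com (TS u φ h) (TS v ψ h') :=
  TG_com SpecialLinearGroup.coeMonoidHom_injective (by rw [vv_mul, vv_mul, e1, e2]; simp)

theorem tv_mem_TS {u φ : ι → k} (h : φ ⬝ᵥ u = 0) : tv u φ h ∈ TS u φ h :=
  ⟨1, by rw [SpecialLinearGroup.coeMonoidHom_apply, tv_coe, one_smul]⟩

theorem TS_com_iff {u φ v ψ : ι → k} (h : φ ⬝ᵥ u = 0) (h' : ψ ⬝ᵥ v = 0) (hu : u ≠ 0) (hφ : φ ≠ 0)
    (hv : v ≠ 0) (hψ : ψ ≠ 0) : Com (TS u φ h) (TS v ψ h') ↔ φ ⬝ᵥ v = 0 ∧ ψ ⬝ᵥ u = 0 :=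
  ⟨fun c => (commute_tv_iff h h' hu hφ hv hψ).mp (c _ (tv_mem_TS h) _ (tv_mem_TS h')),
    fun e => TS_com h h' e.1 e.2⟩

theorem TS_psl2 {u φ v ψ : ι → k} (h : φ ⬝ᵥ u = 0) (h' : ψ ⬝ᵥ v = 0) (e1 : φ ⬝ᵥ v ≠ 0)
    (e2 : ψ ⬝ᵥ u ≠ 0) :
    IsPSL2PairOver k (TS u φ h) (TS v ψ h') ∧ IsRankOnePair (TS u φ h) (TS v ψ h') := by
  refine TG_psl2' SpecialLinearGroup.coeMonoidHom_injective _ _ (mul_ne_zero e1 e2)
    (vv_aba u φ v ψ) (by rw [vv_aba, mul_comm]) (full_vv h) (full_vv h') (vecMulVec_ne_zero ?_ ?_)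
  · rintro rfl; simp at e2
  · rintro rfl; simp at e1

theorem TS_cc {u φ v ψ : ι → k} (h : φ ⬝ᵥ u = 0) (h' : ψ ⬝ᵥ v = 0) (e1 : φ ⬝ᵥ v ≠ 0)
    (e2 : ψ ⬝ᵥ u = 0) :
    ⁅TS u φ h, TS v ψ h'⁆ = TS u ψ e2 ∧ CC (TS u φ h) (TS v ψ h') := by
  have hz : vecMulVec v ψ * vecMulVec u φ = 0 := by rw [vv_mul, e2, zero_smul]
  obtain ⟨c1, c2⟩ := TG_cc (k := k) SpecialLinearGroup.coeMonoidHom_injective (vv_sq h) (vv_sq h') hz
    (full_vv h) (full_vv h')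
  refine ⟨c1.trans ?_, c2⟩
  rw [TS, ← TG_smul e1 (vv_sq e2) (by rw [← vv_mul]; exact mul_sq_zero hz)]
  exact TG_congr (vv_mul u φ v ψ) _ _

/-- the set of all transvection groups -/
def TSS (ι k : Type*) [Field k] [Fintype ι] [DecidableEq ι] : Set (Subgroup (SpecialLinearGroup ι k)) :=
  {A | ∃ u φ : ι → k, ∃ h : φ ⬝ᵥ u = 0, u ≠ 0 ∧ φ ≠ 0 ∧ A = TS u φ h}

theorem sl_mulVec_ne_zero (g : SpecialLinearGroup ι k) {u : ι → k} (hu : u ≠ 0) : g.1 *ᵥ u ≠ 0 :=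
  gl_mulVec_ne_zero (SpecialLinearGroup.toGL g) hu

theorem sl_vecMul_ne_zero (g : SpecialLinearGroup ι k) {u : ι → k} (hu : u ≠ 0) : u ᵥ* g.1 ≠ 0 :=
  gl_vecMul_ne_zero (SpecialLinearGroup.toGL g) hu

theorem TSS_root : IsRootSubgroupSet (TSS ι k) := by
  apply isRootSubgroupSet_mk
  · rintro _ ⟨u, φ, h, -, -, rfl⟩
    exact TS_com h h h h
  · rintro _ ⟨u, φ, h, hu, hφ, rfl⟩
    exact TG_ne_bot (full_vv h) (vecMulVec_ne_zero hu hφ)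
  · apply Classical.SLBasic.eq_top_of_transvection_mem
    intro i j hij c
    have m : TS (Pi.single i (1 : k)) (Pi.single j 1) (single_dot hij _ _) ∈ TSS ι k :=
      ⟨_, _, _, by simp, by simp, rfl⟩
    refine (le_iSup₂_of_le (f := fun A (_ : A ∈ TSS ι k) => A) _ m le_rfl) ⟨c, ?_⟩
    rw [SpecialLinearGroup.coeMonoidHom_apply, transvection_eq, tv_coe, ← vecMulVec_smul]
    congr 2
    ext l; simp [Pi.single_apply]
  · rintro _ ⟨u, φ, h, hu, hφ, rfl⟩ g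
    exact ⟨_, _, _, sl_mulVec_ne_zero g hu, sl_vecMul_ne_zero g⁻¹ hφ, cj_TS g h⟩
  · rintro _ ⟨u, φ, h, hu, hφ, rfl⟩ _ ⟨v, ψ, h', hv, hψ, rfl⟩
    by_cases e1 : φ ⬝ᵥ v = 0 <;> by_cases e2 : ψ ⬝ᵥ u = 0
    · exact Or.inl (TS_com h h' e1 e2)
    · right; right
      obtain ⟨c1, c2⟩ := TS_cc h' h e2 e1
      exact ⟨by rw [commutator_comm, c1]; exact ⟨_, _, _, hv, hφ, rfl⟩, c2.symm⟩
    · right; right
      obtain ⟨c1, c2⟩ := TS_cc h h' e1 e2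
      exact ⟨by rw [c1]; exact ⟨_, _, _, hu, hψ, rfl⟩, c2⟩
    · exact Or.inr (Or.inl (TS_psl2 h h' e1 e2).2)

theorem TSS_kroot : IsKRootSubgroupSet k (TSS ι k) := by
  refine ⟨TSS_root, ?_⟩
  rintro _ hA _ hB hr
  have hS := rs_of (TSS_root (ι := ι) (k := k))
  have hn := fun m => hS.not_r1_of_comm_mem hA hB m hr
  obtain ⟨u, φ, h, hu, hφ, rfl⟩ := hA
  obtain ⟨v, ψ, h', hv, hψ, rfl⟩ := hB
  by_cases e1 : φ ⬝ᵥ v = 0 <;> by_cases e2 : ψ ⬝ᵥ u = 0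
  · exact absurd (TS_com h h' e1 e2) (r1_not_com hr)
  · exact (hn (by rw [commutator_comm, (TS_cc h' h e2 e1).1]; exact ⟨_, _, _, hv, hφ, rfl⟩)).elim
  · exact (hn (by rw [(TS_cc h h' e1 e2).1]; exact ⟨_, _, _, hu, hψ, rfl⟩)).elim
  · exact (TS_psl2 h h' e1 e2).1

theorem TS_reach_left {u φ φ' : ι → k} (h : φ ⬝ᵥ u = 0) (h' : φ' ⬝ᵥ u = 0) (hu : u ≠ 0) (hφ : φ ≠ 0)
    (hφ' : φ' ≠ 0) : Relation.ReflTransGen (FAdj (TSS ι k)) (TS u φ h) (TS u φ' h') := by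
  obtain ⟨v, e1, e2⟩ := exists_dot_two (exists_dot_right hφ) (exists_dot_right hφ')
  obtain ⟨χ, hχ⟩ := exists_dot_eq_one hu
  let ψ := χ - (χ ⬝ᵥ v / φ ⬝ᵥ v) • φ
  have p1 : ψ ⬝ᵥ v = 0 := by
    simp only [ψ, sub_dotProduct, smul_dotProduct, smul_eq_mul]; field_simp; ring
  have p2 : ψ ⬝ᵥ u ≠ 0 := by
    simp only [ψ, sub_dotProduct, smul_dotProduct, smul_eq_mul, h, hχ]; simp
  have m : TS v ψ p1 ∈ TSS ι k :=
    ⟨_, _, _, by rintro rfl; simp at e1, by intro e; rw [e] at p2; simp at p2, rfl⟩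
  exact (Relation.ReflTransGen.single ⟨⟨_, _, _, hu, hφ, rfl⟩, m, (TS_psl2 h p1 e1 p2).2⟩).tail
    ⟨m, ⟨_, _, _, hu, hφ', rfl⟩, (TS_psl2 p1 h' p2 e2).2⟩

theorem TS_reach_right {u u' φ : ι → k} (h : φ ⬝ᵥ u = 0) (h' : φ ⬝ᵥ u' = 0) (hu : u ≠ 0)
    (hu' : u' ≠ 0) (hφ : φ ≠ 0) :
    Relation.ReflTransGen (FAdj (TSS ι k)) (TS u φ h) (TS u' φ h') := by
  obtain ⟨ψ, e1, e2⟩ := exists_dot_two (exists_dot_right hu) (exists_dot_right hu')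
  rw [dotProduct_comm] at e1 e2
  obtain ⟨χ, hχ⟩ := exists_dot_eq_one hφ
  rw [dotProduct_comm] at hχ
  let v := χ - (ψ ⬝ᵥ χ / ψ ⬝ᵥ u) • u
  have p1 : ψ ⬝ᵥ v = 0 := by
    simp only [v, dotProduct_sub, dotProduct_smul, smul_eq_mul]; field_simp; ring
  have p2 : φ ⬝ᵥ v ≠ 0 := by
    simp only [v, dotProduct_sub, dotProduct_smul, smul_eq_mul, h, hχ]; simp
  have m : TS v ψ p1 ∈ TSS ι k :=
    ⟨_, _, _, by intro e; rw [e] at p2; simp at p2, by rintro rfl; simp at e1, rfl⟩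
  exact (Relation.ReflTransGen.single ⟨⟨_, _, _, hu, hφ, rfl⟩, m, (TS_psl2 h p1 p2 e1).2⟩).tail
    ⟨m, ⟨_, _, _, hu', hφ, rfl⟩, (TS_psl2 p1 h' e2 p2).2⟩

omit [DecidableEq ι] in
theorem exists_dot_zero_two (hc : 3 ≤ Fintype.card ι) (u v : ι → k) :
    ∃ χ : ι → k, χ ≠ 0 ∧ χ ⬝ᵥ u = 0 ∧ χ ⬝ᵥ v = 0 := by
  let f : (ι → k) →ₗ[k] k × k :=
    { toFun := fun χ => (χ ⬝ᵥ u, χ ⬝ᵥ v)
      map_add' := fun a b => by simp
      map_smul' := fun c a => by simp }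
  have := LinearMap.ker_ne_bot_of_finrank_lt (f := f) (by simp; omega)
  obtain ⟨χ, h1, h2⟩ := Submodule.exists_mem_ne_zero_of_ne_bot this
  have h3 : (χ ⬝ᵥ u, χ ⬝ᵥ v) = 0 := h1
  exact ⟨χ, h2, congrArg Prod.fst h3, congrArg Prod.snd h3⟩

theorem TSS_conn (hc : 3 ≤ Fintype.card ι) : IsConnectedFamily (FAdj (TSS ι k)) (TSS ι k) := by
  rintro _ ⟨u, φ, h, hu, hφ, rfl⟩ _ ⟨v, ψ, h', hv, hψ, rfl⟩
  obtain ⟨χ, h0, h1, h2⟩ := exists_dot_zero_two hc u v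
  exact ((TS_reach_left h h1 hu hφ h0).trans (TS_reach_right h1 h2 hu hv h0)).trans
    (TS_reach_left h2 h' hv h0 hψ)

theorem exists_SL_pair {n : ℕ} {u φ : Fin (n + 3) → k} (h : φ ⬝ᵥ u = 0) (hu : u ≠ 0) (hφ : φ ≠ 0) :
    ∃ g : SpecialLinearGroup (Fin (n + 3)) k,
      g.1 *ᵥ Pi.single 0 1 = u ∧ Pi.single 1 1 ᵥ* (g⁻¹).1 = φ := by
  have h01 : (0 : Fin (n + 3)) ≠ 1 := by simp
  obtain ⟨g, e1, e2⟩ := exists_GL_pair (u := Pi.single (0 : Fin (n + 3)) (1 : k))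
    (φ := Pi.single 1 1) (by simp) (by simp) hu hφ (by rw [h, single_dot h01])
  have hd : g.1.det ≠ 0 := (Matrix.isUnit_iff_isUnit_det _).mp g.isUnit |>.ne_zero
  let d : Fin (n + 3) → k := Pi.mulSingle 2 (g.1.det)⁻¹
  have h02 : (0 : Fin (n + 3)) ≠ 2 := by
    intro e; have := congrArg Fin.val e
    simp [Nat.mod_eq_of_lt (show 2 < n + 3 by omega)] at this
  have h12 : (1 : Fin (n + 3)) ≠ 2 := by
    intro e; have := congrArg Fin.val e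
    simp [Nat.mod_eq_of_lt (show 2 < n + 3 by omega)] at this
  let s : SpecialLinearGroup (Fin (n + 3)) k := ⟨g.1 * diagonal d, by
    rw [det_mul, det_diagonal]
    simp [d, Finset.prod_pi_mulSingle', hd]⟩
  refine ⟨s, ?_, ?_⟩
  · show (g.1 * diagonal d) *ᵥ Pi.single 0 1 = u
    rw [← mulVec_mulVec, diagonal_mulVec_single, ← e1]
    simp [d, Pi.mulSingle_eq_of_ne h02]
  · have e3 : φ ᵥ* s.1 = Pi.single 1 1 := by
      show φ ᵥ* (g.1 * diagonal d) = _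
      rw [← vecMul_vecMul, e2, single_vecMul_diagonal]
      simp [d, Pi.mulSingle_eq_of_ne h12]
    have e4 : s.1 * (s⁻¹).1 = 1 := congrArg Subtype.val (mul_inv_cancel s)
    rw [← e3, vecMul_vecMul, e4, vecMul_one]

theorem closure_transvection {i j : ι} (hij : i ≠ j) :
    closure {t : SpecialLinearGroup ι k | ∃ c : k, (t : Matrix ι ι k) = Matrix.transvection i j c} =
      TS (Pi.single i 1) (Pi.single j 1) (single_dot hij _ _) := by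
  rw [← closure_eq (TS _ _ _)]
  congr 1
  ext t
  refine exists_congr fun c => ?_
  have : Matrix.transvection i j c =
      1 + c • vecMulVec (Pi.single i (1 : k)) (Pi.single j (1 : k)) := by
    rw [Matrix.transvection, single_eq, ← vecMulVec_smul]
    congr 2
    ext l; simp [Pi.single_apply]
  rw [this]; rfl

theorem TSS_eq (n : ℕ) : {A : Subgroup (SpecialLinearGroup (Fin (n + 3)) k) |
    ∃ g : SpecialLinearGroup (Fin (n + 3)) k, A = conjBy (closure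
      {t : SpecialLinearGroup (Fin (n + 3)) k | ∃ c : k,
        (t : Matrix (Fin (n + 3)) (Fin (n + 3)) k) = Matrix.transvection 0 1 c}) g} =
    TSS (Fin (n + 3)) k := by
  have h01 : (0 : Fin (n + 3)) ≠ 1 := by simp
  rw [closure_transvection h01]
  ext A
  constructor
  · rintro ⟨g, rfl⟩
    exact TSS_root.conj_mem _ ⟨_, _, _, by simp, by simp, rfl⟩ g
  · rintro ⟨u, φ, h, hu, hφ, rfl⟩
    obtain ⟨g, rfl, rfl⟩ := exists_SL_pair h hu hφ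
    exact ⟨g, (cj_TS g _).symm⟩

end Cfsg.Agent.Root
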